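import Cfsg.Agent.J2T.TC
import Cfsg.Agent.H16.J2
import Cfsg.Agent.H12.TC

/-! Recognition of `J₂` from the amalgam relations. -/

set_option autoImplicit false
set_option maxRecDepth 100000
set_option Elab.async false

namespace Cfsg.Agent.J2T.Mod

open H16 H16.J2 H16.Mdl H17

noncomputable def S0 : List ℕ := KS.map Prod.fst

noncomputable def g0 (i : ℕ) : K := ⟨(kK.inL.nth i).choose, (kK.inL.nth i).choose_spec.1⟩

theorem r0 (w : List ℕ) : M.R (evM o S0 w) (ev g0 w).1 := by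
  have := R_ev3 (M := M) (S := S0) (g := fun i => (g0 i).1) (fun i => (kK.inL.nth i).choose_spec.2) w
  rw [show (ev g0 w).1 = _ from map_ev K.subtype g0 w]
  exact this

def wd : List (List ℕ) := [[0], [1, 0, 3, 0, 2, 1, 0, 2, 3, 1, 2, 3, 0, 3, 1],
  [1, 2, 3, 2, 0, 1, 0, 2, 3, 2, 1], [2, 3, 2, 0, 1, 0, 2, 3, 2], [0, 1, 2, 0, 1, 2],
  [0, 2, 1, 0, 2, 1], [3, 2, 0, 1, 0, 2, 3, 0, 2], [2, 0, 3, 2, 0, 1, 0, 2, 3]]

noncomputable def m : ℕ → K := sub wd g0

theorem r1 (w : List ℕ) : M.R (evM o S0 (substW wd w)) (ev m w).1 := by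
  rw [m, ev_sub]; exact r0 _

theorem sat {R : List (List ℕ)} (h : R.all (fun r => isOne o (evM o S0 (substW wd r))) = true) :
    Sat m R := fun r hr => Subtype.ext (isOne_spec (r1 r) (List.all_eq_true.1 h r hr))

theorem sat0 : Sat m HJU.R0 := sat (by decide +kernel)

theorem inv0 : Inv 4 m := inv_of_sat (nc := 8) rfl (by decide) (fun x hx => by
  obtain ⟨y, rfl⟩ := Nat.exists_eq_add_of_le' hx
  rfl) (sat (by decide +kernel))

theorem gen {w : List ℕ} {p : ℕ} {g} (r : M.R p g) (h : o.eqb (evM o S0 (substW wd w)) p = true)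
    (hw : ∀ x ∈ w, [x] ∈ HJU0.σ) : g ∈ (wgrp m HJU0.σ).map K.subtype :=
  ⟨_, ev_mem fun x hx => by simpa using mem_wgrp m (hw x hx), M.eq_of (r1 w) r h⟩

theorem top : wgrp m HJU0.σ = ⊤ := by
  refine eq_top_iff.2 fun x _ => ?_
  have : K ≤ (wgrp m HJU0.σ).map K.subtype := clo_le' fun p hp g r => by
    have e : S0 = [H16.nth 0 S0 0, H16.nth 0 S0 1, H16.nth 0 S0 2, H16.nth 0 S0 3] := by
      decide +kernel
    change p ∈ S0 at hp
    rw [e] at hp
    simp only [List.mem_cons, List.not_mem_nil, or_false] at hp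
    rcases hp with rfl | rfl | rfl | rfl
    · exact gen (w := [0]) r (by decide +kernel) (by decide +kernel)
    · exact gen (w := [2, 3, 2]) r (by decide +kernel) (by decide +kernel)
    · exact gen (w := [0, 3, 0, 7, 0, 3]) r (by decide +kernel) (by decide +kernel)
    · exact gen (w := [2, 4, 1, 2, 3, 6, 0, 3, 6, 2, 1, 2, 5]) r (by decide +kernel)
        (by decide +kernel)
  exact (Subgroup.mem_map_iff_mem K.subtype_injective).1 (this x.2)

theorem iso' {G H : Type*} [Group G] [Finite G] [Group H] [Finite H] [IsSimpleGroup H] {m : ℕ → H}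
    (inv0 : Inv 4 m) (sat0 : Sat m HJU.R0) (top : wgrp m HJU0.σ = ⊤) (card : Nat.card H = 604800)
    {g : ℕ → G} (hI : Inv 4 g) (hR : Sat g HJU.R0)
    (h1 : g 0 ≠ 1) (hc : Nat.card G = 604800) : Nonempty (H ≃* G) := by
  have h0 := HJU.card0 (g := fun x => (m x, g x))
    (fun x => Prod.ext (inv0 x) (hI x)) fun r hr => Prod.ext
      ((map_ev (MonoidHom.fst H G) _ r).trans (sat0 r hr))
      ((map_ev (MonoidHom.snd H G) _ r).trans (hR r hr))
  rw [← card] at h0
  haveI := h0.1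
  obtain ⟨f, hf⟩ := H12.exists_hom_of_card_le (wgrp (fun x => (m x, g x)) HJU0.σ)
    ((map_wgrp (MonoidHom.fst H G) (fun _ => rfl) _).trans top) h0.2
  have h4 : Function.Injective f := (MonoidHom.ker_eq_bot_iff f).1
    ((f.normal_ker.eq_bot_or_eq_top).resolve_right fun e => h1 (by
      have := hf _ (mem_wgrp (fun x => (m x, g x)) (u := [0]) (by decide +kernel))
      simp only [ev_cons, ev_nil, mul_one] at this
      exact this ▸ MonoidHom.mem_ker.1 (e.ge (Subgroup.mem_top _))))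
  exact ⟨MulEquiv.ofBijective f ((Nat.bijective_iff_injective_and_card f).2
    ⟨h4, card.trans hc.symm⟩)⟩

theorem iso {G : Type*} [Group G] [Finite G] {g : ℕ → G} (hI : Inv 4 g) (hR : Sat g HJU.R0)
    (h1 : g 0 ≠ 1) (hc : Nat.card G = 604800) : Spor.IsoJ2 G := by
  haveI := simple
  obtain ⟨f⟩ := iso' inv0 sat0 top card hI hR h1 hc
  obtain ⟨e⟩ := J2.iso
  exact ⟨f.symm.trans e⟩

end Cfsg.Agent.J2T.Mod
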