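import Cfsg.Agent.J2T.I
import Cfsg.Agent.J2T.M

/-! Groups of Hall–Janko type: the amalgam relations. -/

set_option autoImplicit false
set_option linter.unusedSectionVars false

namespace Cfsg.Agent.J2T

open Subgroup Cfsg.Agent.H10 Cfsg.Agent.JR
open scoped commutatorElement Pointwise

variable {G : Type*} [Group G] [Finite G]

theorem v5_rel : v5 * v5 = 1 ∧ v5 * r5 * v5 * r5 = 1 ∧ (v5 * a5) ^ 3 = 1 := by decide +kernel

theorem eq_inv3 {x : G} (ho : orderOf x = 3) (e : x = x⁻¹) : False :=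
  sq_ne_of_three ho (mul_eq_one_iff_eq_inv.2 e)

/-- the letters -/
def lt (z t q k σ ρ : G) : ℕ → G
  | 0 => z
  | 1 => t
  | 2 => q
  | 3 => k
  | 4 => σ
  | 5 => σ⁻¹
  | 6 => ρ
  | 7 => ρ⁻¹
  | _ => 1

namespace JE

variable {Q P K : Subgroup G} {z s σ ρ t x y u a q k : G} (h : JE Q P z s σ ρ t K)
include h

theorem inv : JE Q P z s σ⁻¹ ρ t K :=
  { h with
    σC := inv_mem h.σC
    oσ := (orderOf_inv σ).trans h.oσ
    σρ := Commute.inv_left h.σρ }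

theorem ρz3 : (ρ * z) ^ 3 = 1 := by
  calc _ = ρ * z * ρ⁻¹ * (ρ * (ρ * z * ρ⁻¹) * ρ⁻¹) * ρ ^ 3 * z := by
        simp only [pow_three]; group
    _ = 1 := by
      rw [h.ρz, h.ρs, h.ρ3, mul_one, ← mul_assoc, h.l.pr.tz, mul_assoc z, h.wp.zz, mul_one,
        h.wq.zz]

theorem exists_k : ∃ k ∈ K, k * k = 1 ∧ k * ρ * k * ρ = 1 ∧ (k * z) ^ 3 = 1 := by
  obtain ⟨e⟩ := h.eA5
  obtain ⟨f, f1, f2⟩ := A5_norm (ρ := e ⟨ρ, h.ρK⟩) (α := e ⟨z, h.VK Pr.z_mem⟩)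
    (by rw [← map_pow, e.map_eq_one_iff]; exact Subtype.ext h.ρ3)
    (fun e' => h.ρ1 (congrArg Subtype.val (e.map_eq_one_iff.1 e')))
    (by rw [← map_mul, e.map_eq_one_iff]; exact Subtype.ext h.wq.zz)
    (fun e' => h.wq.ne_one (congrArg Subtype.val (e.map_eq_one_iff.1 e')))
    (by rw [← map_mul, ← map_pow, e.map_eq_one_iff]; exact Subtype.ext h.ρz3)
  let φ : A5 →* G := K.subtype.comp ((f.trans e.symm).toMonoidHom)
  have a1 : φ r5 = ρ := by simp [φ, f1]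
  have a2 : φ a5 = z := by simp [φ, f2]
  obtain ⟨b1, b2, b3⟩ := v5_rel
  refine ⟨φ v5, (f.trans e.symm v5).2, ?_, ?_, ?_⟩
  · rw [← map_mul, b1, map_one]
  · rw [← a1, ← map_mul, ← map_mul, ← map_mul, b2, map_one]
  · rw [← a2, ← map_mul, ← map_pow, b3, map_one]

theorem relU : t * (σ * t * σ⁻¹) * (σ⁻¹ * t * σ) = 1 := by
  have b : σ * t * σ⁻¹ ∈ UU Q P z s ρ := (h.σU t).1 h.tU
  have c : σ⁻¹ * t * σ ∈ UU Q P z s ρ := by simpa using (h.inv.σU t).1 h.tU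
  have b1 : t ≠ σ * t * σ⁻¹ := fun e => h.σt (mul_inv_eq_iff_eq_mul.1 e.symm)
  rcases (H11.klein_mem_iff h.kleinU h.tU b h.t1 (by simpa using h.t1) b1).1 c with e | e | e | e
  · refine absurd ?_ h.t1
    calc t = σ * (σ⁻¹ * t * σ) * σ⁻¹ := by group
      _ = 1 := by rw [e]; group
  · exact absurd (by nth_rw 2 [← e]; group) b1
  · exact absurd (fix_of_sq h.σ3 (by rw [← e]; group)).symm b1
  · rw [e]; exact h.Usq (mul_mem h.tU b)

theorem tq4 (hq : q ∈ Q) (q2 : q * q = 1) (qs : q * s ≠ s * q) :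
    t * q * (t * q) * (t * q * (t * q)) = z := by
  have q' : q⁻¹ = q := inv_eq_of_mul_eq_one_right q2
  have t' : t⁻¹ = t := inv_eq_of_mul_eq_one_right h.tt
  have w : t * q * (t * q) ∈ Q := by
    have := mul_mem (h.wq.conj_mem (h.Rz h.tR) hq) hq
    rwa [t', mul_assoc] at this
  refine h.wq.sq_eq w fun e => h.tQ (h.memQ hq qs h.tR ?_)
  have a1 : q * t * q⁻¹ ∈ RR Q P z s := (h.M_norm (h.l.pr.le_norm hq) t).1 h.tR
  have a2 : q * t * q⁻¹ ∈ AA Q P z s ρ := h.CR.le ⟨mem_Ce.2 (by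
    rw [q']
    calc _ = (t * q * (t * q))⁻¹ := by simp only [mul_inv_rev, q', t', mul_assoc]
      _ = _ := by rw [inv_eq_of_mul_eq_one_right e]; simp only [mul_assoc]), a1⟩
  refine h.AQ (mul_mem a2 (inv_mem h.tA)) ?_
  simpa only [mul_inv_rev, q', t', mul_assoc, commutatorElement_def] using inv_mem w

theorem kq3 (hk : k ∈ K) (k2 : k * k = 1) (kρ : k * ρ * k * ρ = 1) (q2 : q * q = 1)
    (qσ : q * σ = σ * q) (qρ : q * ρ * q * ρ = σ) : (k * q) ^ 3 = 1 := by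
  have q' : q⁻¹ = q := inv_eq_of_mul_eq_one_right q2
  have k' : k⁻¹ = k := inv_eq_of_mul_eq_one_right k2
  have kσ : Commute k σ := h.σK k hk
  have a0 : k * ρ * k⁻¹ = ρ⁻¹ := by rw [k']; exact eq_inv_of_mul_eq_one_left kρ
  have a1 : Commute (k * q) σ := kσ.mul_left qσ
  have a2 : ∀ n : ℤ, k * q * ρ ^ n * (k * q)⁻¹ = σ ^ n * ρ ^ n := fun n => by
    rw [← conj_zpow, ← Commute.mul_zpow h.σρ]
    congr 1
    calc _ = k * (q * ρ * q * ρ) * k⁻¹ * (k * ρ * k⁻¹)⁻¹ := by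
          rw [mul_inv_rev, q']; group
      _ = _ := by rw [qρ, a0, kσ, mul_inv_cancel_right, inv_inv]
  have a3 : (k * q) ^ 3 ∈ EE σ ρ := h.CE.le ⟨mem_Ce.2 (by
    have b := a2 1
    simp only [zpow_one] at b
    have b' : k * q * ρ = σ * ρ * (k * q) := mul_inv_eq_iff_eq_mul.1 b
    generalize k * q = x at *
    have b1 : ∀ y, x * (ρ * y) = σ * (ρ * (x * y)) := fun y => by
      rw [← mul_assoc, b', mul_assoc, mul_assoc]
    have b2 : ∀ y, x * (σ * y) = σ * (x * y) := fun y => a1.left_comm y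
    calc _ = x * (x * (x * (ρ * 1))) := by rw [pow_three]; group
      _ = σ * (σ * (σ * (ρ * (x * (x * (x * 1)))))) := by simp only [b1, b2]
      _ = σ * σ * σ * (ρ * x ^ 3) := by rw [pow_three]; group
      _ = _ := by rw [← pow_three', h.σ3, one_mul]), mem_Ce.2 (a1.pow_left 3)⟩
  obtain ⟨_, ⟨i, rfl⟩, _, ⟨j, rfl⟩, e⟩ := (H1.mem_sup_of_le_normalizer_left (zpowers_le.2
    (centralizer_le_normalizer _ (by rw [centralizer_zpowers]; exact mem_Ce.2 h.σρ)))).1 a3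
  dsimp only at e
  have a4 : k * (k * q) ^ 3 * k⁻¹ = ((k * q) ^ 3)⁻¹ := by
    rw [← conj_pow, ← inv_pow, mul_inv_rev, q', k', ← mul_assoc, k2, one_mul]
  rw [← e, mul_inv_rev, ← conj_mul, ← conj_zpow, a0, kσ.zpow_right, mul_inv_cancel_right,
    ← zpow_neg, ← zpow_neg, Commute.zpow_zpow h.σρ, inv_zpow'] at a4
  have a5 : σ ^ j = 1 := by
    rcases mem_zp3 h.oσ ⟨j, rfl⟩ with e | e | e
    · exact e
    all_goals
      have := mul_left_cancel a4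
      rw [zpow_neg] at this
      dsimp only at e
      rw [e] at this
    · exact (eq_inv3 h.oσ this).elim
    · exact (eq_inv3 h.oσ (by simpa using this.symm)).elim
  rw [a5, mul_one] at e
  have a6 := a2 i
  rw [e, ← pow_succ', pow_succ, mul_inv_cancel_right, ← e, eq_comm, mul_eq_right,
    ← orderOf_dvd_iff_zpow_eq_one, h.oσ, ← h.oρ, orderOf_dvd_iff_zpow_eq_one] at a6
  rw [← e, a6]

theorem isoJ2 (hq : q ∈ Q) (q2 : q * q = 1) (qs : q * s ≠ s * q)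
    (qσ : q * σ = σ * q) (qρ : q * ρ * q * ρ = σ) : Spor.IsoJ2 G := by
  obtain ⟨k, hk, k2, kρ, kz⟩ := h.exists_k
  refine Mod.iso (g := lt z t q k σ ρ) (H17.inv_of_sat (nc := 8) rfl (by decide) (fun x hx => by
    obtain ⟨y, rfl⟩ := Nat.exists_eq_add_of_le' hx
    rfl) ?_) ?_ h.wq.ne_one h.order
  · rw [show H17.invWords 4 8 = [[7, 6], [6, 7], [5, 4], [4, 5], [3, 3], [2, 2], [1, 1], [0, 0]] by
      decide +kernel]
    simp [H17.Sat, lt, k2, q2, h.tt, h.wq.zz]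
  have a1 := h.σ3
  have a2 := h.ρ3
  have a3 := h.σρ
  have a4 := (Pr.mem_cV.1 h.σC).1
  have a5 := h.ρz3
  have a6 := h.relU
  have a7 := h.tq4 hq q2 qs
  have a8 := h.kq3 hk k2 kρ q2 qσ qρ
  have a9 : k * t = t * k := mem_Ce.1 (h.KC hk)
  have a10 : k * σ = σ * k := h.σK k hk
  simp only [H17.Sat, H17.HJU.R0, List.forall_mem_cons, H17.ev_cons, H17.ev_nil, lt, mul_one]
  refine ⟨?_, ?_, ?_, ?_, ?_, ?_, ?_, ?_, ?_, ?_, ?_, ?_, ?_, ?_, ?_, ?_, ?_, ?_, by simp⟩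
  · rw [← a1, pow_three]
  · rw [← a2, pow_three]
  · rw [← mul_assoc, a3]; group
  · rw [← mul_assoc, a4, mul_assoc, mul_inv_cancel_left, h.wq.zz]
  · rw [← a5, pow_three]; group
  · calc _ = z * (ρ * z * ρ⁻¹) * (z * (ρ * z * ρ⁻¹)) := by group
      _ = 1 := by rw [h.ρz]; exact H11.klein_sq h.klein (mul_mem Pr.z_mem Pr.t_mem)
  · rw [← mul_assoc, h.tρ, mul_assoc, ← mul_assoc t, h.tt, one_mul, mul_inv_cancel]
  · rw [← mul_assoc z, ← h.Rz h.tR, mul_assoc, h.wq.zz, mul_one, h.tt]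
  · rw [← a6]; group
  · rw [← mul_assoc, qσ, mul_assoc, ← mul_assoc q, q2, one_mul, mul_inv_cancel]
  · rw [← mul_assoc z, ← h.wq.cent q hq, mul_assoc, h.wq.zz, mul_one, q2]
  · rw [← qρ]; group
  · rw [← h.wq.zz]
    nth_rw 2 [← a7]
    group
  · rw [← kρ]; group
  · rw [← kz, pow_three]; group
  · rw [← mul_assoc t, ← a9, mul_assoc, h.tt, mul_one, k2]
  · rw [← mul_assoc, a10, mul_assoc, ← mul_assoc k, k2, one_mul, mul_inv_cancel]
  · rw [← a8, pow_three]; group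

theorem exists_q0 : ∃ q ∈ Q, q * q = 1 ∧ q * s ≠ s * q ∧ q * σ = σ * q := by
  obtain ⟨x, hx, h1⟩ : ∃ a ∈ ((Q ⊓ Ce σ : Subgroup G) : Set G), a ∉ (Vs z s : Set G) :=
    Set.exists_mem_notMem_of_ncard_lt_ncard (by
      rw [ncard_coe, ncard_coe, h.cardV, h.cardQσ]; norm_num)
  have h2 : x * s ≠ s * x := fun e => h1 (h.fpfQ h.σC h.oσ ⟨⟨hx.1, mem_Ce.2 e⟩, hx.2⟩)
  by_cases e : x * x = 1
  · exact ⟨x, hx.1, e, h2, mem_Ce.1 hx.2⟩
  refine ⟨x * s, mul_mem hx.1 h.l.tQ, ?_, fun e => h2 (mul_right_cancel (e.trans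
    (mul_assoc _ _ _).symm)), Commute.mul_left (mem_Ce.1 hx.2) (Pr.mem_cV.1 h.σC).2.symm⟩
  rw [h.wq.sq_mul hx.1 h.l.tQ h2.symm, h.wq.sq_eq hx.1 e, h.wq.zz, h.wp.zz, mul_one]

theorem not_inv (hq : q ∈ Q) (q2 : q * q = 1) (qs : q * s ≠ s * q) : q * ρ * q * ρ ≠ 1 := by
  intro e
  have q' : q⁻¹ = q := inv_eq_of_mul_eq_one_right q2
  have a0 : q * ρ * q = ρ⁻¹ := eq_inv_of_mul_eq_one_left e
  have a1 : q * t * q⁻¹ ∈ UU Q P z s ρ := ⟨(h.M_norm (h.l.pr.le_norm hq) t).1 h.tR, mem_Ce.2 (by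
    have : ρ = q * ρ⁻¹ * q⁻¹ := by rw [← a0, q', ← mul_assoc, ← mul_assoc, q2, one_mul, mul_assoc, q2, mul_one]
    rw [this, conj_mul, conj_mul, Commute.inv_right h.tρ])⟩
  have a2 := h.UQ (mul_mem a1 (inv_mem h.tU)) (by
    rw [mul_assoc, mul_assoc, ← mul_assoc t]
    exact mul_mem hq (h.wq.conj_mem (h.Rz h.tR) (inv_mem hq)))
  rw [mul_inv_eq_one, mul_inv_eq_iff_eq_mul] at a2
  exact qs (h.RV (h.VR Pr.t_mem) (h.QCt.le ⟨hq, mem_Ce.2 a2⟩))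

end JE

namespace JF

variable {Q P K : Subgroup G} {z s σ ρ t x y u a q k : G} {π : Ce z →* A5}
  (h : JF Q P z s σ ρ t K π)
include h

theorem exists_q : ∃ q ∈ Q, q * q = 1 ∧ q * s ≠ s * q ∧ q * σ = σ * q ∧
    q * ρ * q * ρ ∈ zpowers σ := by
  obtain ⟨q, hq, q2, qs, qσ⟩ := h.exists_q0
  have q' : q⁻¹ = q := inv_eq_of_mul_eq_one_right q2
  have b1 : q * z * q⁻¹ = z := by rw [h.wq.cent q hq, mul_inv_cancel_right]
  have b2 : q * s * q⁻¹ = z * s := h.wq.conj_eq_of_ne hq h.l.tQ qs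
  have b3 : q * (z * s) * q⁻¹ = s := by
    rw [← conj_mul, b1, b2, ← mul_assoc, h.wq.zz, one_mul]
  have c0 : ∀ v, q * ρ * q * ρ * v * (q * ρ * q * ρ)⁻¹ =
      q * (ρ * (q * (ρ * v * ρ⁻¹) * q⁻¹) * ρ⁻¹) * q⁻¹ := fun v => by group
  have c1 : q * ρ * q * ρ * z = z * (q * ρ * q * ρ) :=
    mul_inv_eq_iff_eq_mul.1 (by rw [c0, h.ρz, b2, h.ρzs, b1])
  have c2 : q * ρ * q * ρ * s = s * (q * ρ * q * ρ) :=
    mul_inv_eq_iff_eq_mul.1 (by rw [c0, h.ρs, b3, h.ρs, b3])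
  have c3 : Commute (q * ρ * q * ρ) σ :=
    ((Commute.mul_left qσ h.σρ.symm).mul_left qσ).mul_left h.σρ.symm
  obtain ⟨v, hv, w, hw, e⟩ := (H1.mem_sup_of_le_normalizer_left (N := Q ⊓ Ce σ) (zpowers_le.2
    (centralizer_le_normalizer _ fun q hq => mem_Ce.1 hq.2))).1
      (cent_hom π h.ker h.σH (by rw [show 15 = 3 * 5 from rfl, pow_mul, h.σ3, one_pow])
        (fun e => sq_ne_of_three h.oσ (by
          rcases h.wq.mem_z.1 (h.wq.sq σ e) with e | e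
          · exact e
          · have := h.σ3
            have a := h.wq.zz
            rw [← e, ← mul_assoc, ← pow_three', this, one_mul] at a
            rw [a, one_mul])) ⟨mem_Ce.2 c1, mem_Ce.2 c3⟩)
  obtain ⟨j, rfl⟩ := hw
  dsimp only at e
  have d1 : v ∈ Vs z s := h.fpfQ h.σC h.oσ ⟨⟨hv.1, mem_Ce.2 (by
    rw [eq_mul_inv_of_mul_eq e]
    exact Commute.mul_left c2 (Commute.zpow_left (Pr.mem_cV.1 h.σC).2 j).inv_left)⟩, hv.2⟩
  have d2 : q * v * q⁻¹ = ρ * v * ρ⁻¹ := by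
    have e1 : Commute (σ ^ j)⁻¹ q := (Commute.zpow_right qσ j).symm.inv_left
    have e2 : Commute ρ (σ ^ j)⁻¹ := (Commute.zpow_left h.σρ j).inv_left.symm
    calc _ = q * q * ρ * q * ρ * ((σ ^ j)⁻¹ * q⁻¹) := by rw [eq_mul_inv_of_mul_eq e]; group
      _ = ρ * q * ρ * q * (ρ * (σ ^ j)⁻¹ * ρ⁻¹) := by
        rw [q2, q', e1, e2, mul_inv_cancel_right, one_mul, ← mul_assoc]
      _ = _ := by rw [eq_mul_inv_of_mul_eq e]; group
  rcases h.l.pr.mem_V.1 d1 with rfl | rfl | rfl | rfl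
  · exact ⟨q, hq, q2, qs, qσ, j, by simpa using e⟩
  · rw [b1, h.ρz] at d2
    exact absurd d2.symm h.l.ne
  · refine ⟨q * z, mul_mem hq h.wq.mem, ?_, fun e => qs ?_,
      Commute.mul_left qσ (Pr.mem_cV.1 h.σC).1.symm, j, ?_⟩
    · rw [mul_assoc, ← mul_assoc z, ← h.wq.cent q hq, mul_assoc, h.wq.zz, mul_one, q2]
    · rw [mul_assoc, ← h.l.pr.tz, ← mul_assoc, ← mul_assoc] at e
      exact mul_right_cancel e
    · calc _ = v * (v * σ ^ j) := by rw [← mul_assoc, h.wp.zz, one_mul]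
        _ = q * (z * (ρ * z * ρ⁻¹)) * q⁻¹ * (q * ρ * q * ρ) := by rw [e, h.ρz, b3]
        _ = q * z * ρ * (z * q) * ρ := by group
        _ = _ := by rw [h.wq.cent q hq]
  · rw [b3, h.ρzs] at d2
    exact absurd d2 h.l.ne

theorem isoJ2 : Spor.IsoJ2 G := by
  obtain ⟨q, hq, q2, qs, qσ, e⟩ := h.exists_q
  rcases mem_zp3 h.oσ e with e | e | e
  · exact absurd e (h.not_inv hq q2 qs)
  · exact h.toJE.isoJ2 hq q2 qs qσ e
  · exact h.inv.isoJ2 hq q2 qs (Commute.inv_right qσ) e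

end JF

end Cfsg.Agent.J2T
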