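import Cfsg.Agent.J2T.E
import Cfsg.Agent.S0824
import Cfsg.Agent.H26.ES4

/-! Groups of Hall–Janko type: the setup from the hypotheses. -/

set_option autoImplicit false
set_option linter.unusedSectionVars false

namespace Cfsg.Agent.J2T

open Subgroup Cfsg.Agent.H10 Cfsg.Agent.JR
open scoped commutatorElement Pointwise

variable {G : Type*} [Group G] [Finite G]

theorem JW.exists_je {Q : Subgroup G} {z g : G} (h : JW Q z) (hg : g * z * g⁻¹ ∈ Q)
    (hne : g * z * g⁻¹ ≠ z) (hcl : ∃ x y : G, orderOf x = 2 ∧ orderOf y = 2 ∧ ¬ IsConj x y) :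
    ∃ P s σ ρ t K, JE Q P z s σ ρ t K := by
  obtain ⟨σ, ρ, t, h1⟩ := JP.exists_jd ⟨h.toLX.lpr hg hne, h, h.conj g⟩
  obtain ⟨x, y, hx, hy, e⟩ := hcl
  obtain ⟨K, h2⟩ := h1.exists_je fun e' => e
    (((h1.invG hx).elim id e'.trans).symm.trans ((h1.invG hy).elim id e'.trans))
  exact ⟨_, _, _, _, _, K, h2⟩

theorem omega_A5 : Nonempty (Omega (ZMod 2) (quadFormMinus 1 (ZMod 2) 1 1) ≃* A5) := by
  obtain ⟨e⟩ := S0824.result (F := ZMod 2) (ZMod.card 2)
  refine ⟨(e.subgroupMap _).trans (MulEquiv.subgroupCongr ?_)⟩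
  refine Eq.trans ?_ (alternatingGroup.commutator_perm_eq (by simp))
  rw [Omega, _root_.commutator_def, _root_.commutator_def, map_commutator,
    map_top_of_surjective _ e.surjective]

structure JF (Q P : Subgroup G) (z s σ ρ t : G) (K : Subgroup G) (π : Ce z →* A5) : Prop
    extends JE Q P z s σ ρ t K where
  sur : Function.Surjective π
  ker : ∀ x, π x = 1 ↔ x.1 ∈ Q

theorem setup {z : G} (hz : orderOf z = 2) {Q : Subgroup (Ce z)} [Q.Normal]
    (hF : generalizedFittingSubgroup (Ce z) = Q) (hQ : IsExtraspecial 2 Q)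
    (hcard : Nat.card Q = 2 ^ 5)
    (e : Ce z ⧸ Q ≃* Omega (ZMod 2) (quadFormMinus 1 (ZMod 2) 1 1))
    (hnwc : ∃ g : G, (∃ hq : g * z * g⁻¹ ∈ Ce z, (⟨g * z * g⁻¹, hq⟩ : Ce z) ∈ Q) ∧
      g * z * g⁻¹ ≠ z) (hcl : ∃ x y : G, orderOf x = 2 ∧ orderOf y = 2 ∧ ¬ IsConj x y) :
    ∃ Q' P s σ ρ t K π, JF Q' P z s σ ρ t K π := by
  haveI : Fact (Nat.Prime 2) := ⟨Nat.prime_two⟩
  obtain ⟨f⟩ := omega_A5
  obtain ⟨g, ⟨hq, h1⟩, h2⟩ := hnwc
  have h3 : JW (Q.map (Ce z).subtype) z := ⟨lx_of_fstar hz (by rw [FstarOf_def, hF])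
    (H26.isExtraspecial_congr hQ (equivMapOfInjective _ _ (subtype_injective _))),
    by rw [card_map_of_injective (subtype_injective _), hcard]; rfl, by
      rw [card_eq_card_quotient_mul_card_subgroup Q, Nat.card_congr (e.trans f).toEquiv, card_A5,
        hcard]; rfl⟩
  obtain ⟨P, s, σ, ρ, t, K, h⟩ := h3.exists_je ⟨_, h1, rfl⟩ h2 hcl
  refine ⟨_, P, s, σ, ρ, t, K, (e.trans f).toMonoidHom.comp (QuotientGroup.mk' Q), h,
    (e.trans f).surjective.comp (QuotientGroup.mk'_surjective Q), fun x => ?_⟩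
  exact ((e.trans f).map_eq_one_iff.trans (QuotientGroup.eq_one_iff x)).trans
    (mem_map_iff_mem (subtype_injective _)).symm

end Cfsg.Agent.J2T
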