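import Cfsg.Agent.H10.Xsp6
import Cfsg.Agent.H11.Klein
import Cfsg.Agent.JR.A5

/-! Groups of Hall–Janko type: the extraspecial group `Q`. -/

set_option autoImplicit false
set_option linter.unusedSectionVars false

namespace Cfsg.Agent.J2T

open Subgroup Cfsg.Agent.H10
open scoped commutatorElement

variable {G : Type*} [Group G] [Finite G]

/-- centralizer of an element -/
abbrev Ce (x : G) : Subgroup G := centralizer ({x} : Set G)

theorem mem_Ce {x y : G} : y ∈ Ce x ↔ y * x = x * y := mem_centralizer_singleton_iff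

def cls (H : Subgroup G) (x : G) : Set G := {y | ∃ h ∈ H, h * x * h⁻¹ = y}

theorem self_mem_cls (H : Subgroup G) (x : G) : x ∈ cls H x := ⟨1, one_mem _, by simp⟩

theorem ncard_cls (H : Subgroup G) (x : G) : (cls H x).ncard = (Ce x).relIndex H := by
  letI : MulAction H G := MulAction.compHom G ((MulAut.conj (G := G)).comp H.subtype)
  have h1 : cls H x = MulAction.orbit H x := by
    ext y; exact ⟨fun ⟨h, hh, e⟩ => ⟨⟨h, hh⟩, e⟩, fun ⟨h, e⟩ => ⟨h, h.2, e⟩⟩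
  have h2 : (Ce x).subgroupOf H = MulAction.stabilizer H x := by
    ext h
    rw [mem_subgroupOf, mem_Ce, MulAction.mem_stabilizer_iff]
    exact mul_inv_eq_iff_eq_mul.symm
  rw [h1, relIndex, h2, MulAction.index_stabilizer]

theorem card_mul_cls (H : Subgroup G) (x : G) :
    Nat.card (Ce x ⊓ H : Subgroup G) * (cls H x).ncard = Nat.card H := by
  rw [ncard_cls, H1.card_inf_mul_relIndex]

theorem cls_subset {H : Subgroup G} {X : Set G} (h : H ≤ normalizer X) {x : G} (hx : x ∈ X) :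
    cls H x ⊆ X := by
  rintro _ ⟨g, hg, rfl⟩
  exact ((h hg) x).1 hx

theorem dvd_ncard {H : Subgroup G} {d : ℕ} (n : ℕ) : ∀ X : Set G, X.ncard = n → H ≤ normalizer X →
    (∀ x ∈ X, d ∣ (Ce x).relIndex H) → d ∣ X.ncard := by
  induction n using Nat.strong_induction_on with
  | _ n ih =>
  intro X hn h1 h2
  rcases X.eq_empty_or_nonempty with rfl | ⟨x, hx⟩
  · simp
  have h3 := Set.ncard_diff_add_ncard_of_subset (cls_subset h1 hx)
  have h4 : 0 < (cls H x).ncard := (Set.ncard_pos (Set.toFinite _)).2 ⟨x, self_mem_cls H x⟩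
  rw [← h3]
  refine dvd_add (ih _ (by omega) _ rfl (fun g hg => mem_normalizer_fintype fun y hy =>
    ⟨((h1 hg) y).1 hy.1, fun ⟨k, hk, e⟩ => hy.2 ⟨g⁻¹ * k, mul_mem (inv_mem hg) hk, ?_⟩⟩)
    fun y hy => h2 y hy.1) (ncard_cls H x ▸ h2 x hx)
  rw [mul_inv_rev, show g⁻¹ * k * x * (k⁻¹ * g⁻¹⁻¹) = g⁻¹ * (k * x * k⁻¹) * g by group, e]
  group

theorem dvd_diff {p : ℕ} (hp : p.Prime) {a : G} (ha : orderOf a = p) {X : Set G}
    (hX : ∀ x ∈ X, a * x * a⁻¹ ∈ X) : p ∣ (X \ Ce a).ncard := by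
  refine dvd_ncard (H := zpowers a) _ _ rfl (zpowers_le.2 (mem_normalizer_fintype fun x hx =>
    ⟨hX x hx.1, fun h => hx.2 ?_⟩)) fun x hx => ?_
  · have h1 := mem_Ce.1 h
    rw [inv_mul_cancel_right, mul_assoc a x, mul_right_inj, eq_comm, ← mul_assoc,
      mul_inv_eq_iff_eq_mul] at h1
    exact mem_Ce.2 h1.symm
  · have h1 : (Ce x).relIndex (zpowers a) ∣ p := by
      rw [← ha, ← Nat.card_zpowers]; exact relIndex_dvd_card _ _
    rcases (Nat.dvd_prime hp).1 h1 with h | h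
    · exact absurd (mem_Ce.2 (mem_Ce.1 (relIndex_eq_one.1 h (mem_zpowers a))).symm) hx.2
    · rw [h]

theorem card_dvd_ncard {V : Subgroup G} {Y : Set G} (h : ∀ y ∈ Y, ∀ v ∈ V, y * v ∈ Y) :
    Nat.card V ∣ Y.ncard := by
  have h1 : Y = QuotientGroup.mk ⁻¹' ((QuotientGroup.mk : G → G ⧸ V) '' Y) := by
    ext x
    refine ⟨fun hx => ⟨x, hx, rfl⟩, fun ⟨y, hy, e⟩ => ?_⟩
    simpa using h y hy _ (QuotientGroup.eq.1 e)
  rw [h1, ← Nat.card_coe_set_eq, QuotientGroup.card_preimage_mk]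
  exact dvd_mul_right _ _

theorem ncard_coe (H : Subgroup G) : (H : Set G).ncard = Nat.card H := rfl

theorem ncard_split (X : Set G) (K : Subgroup G) :
    X.ncard = (X ∩ K).ncard + (X \ K).ncard := (Set.ncard_inter_add_ncard_diff_eq_ncard X K).symm

/-- the weak hypothesis -/
structure JW (Q : Subgroup G) (z : G) : Prop extends LX Q z where
  cq : Nat.card Q = 32
  ch : Nat.card (Ce z) = 1920

/-- noncentral involutions -/
def Om (Q : Subgroup G) (z : G) : Set G := {x | x ∈ Q ∧ x * x = 1 ∧ x ∉ zpowers z}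

namespace JW

variable {Q : Subgroup G} {z s x f : G} (h : JW Q z)
include h

theorem conj (g : G) : JW (Q.map (MulAut.conj g).toMonoidHom) (g * z * g⁻¹) :=
  ⟨h.toLX.conj g, by rw [card_conj, h.cq], by
    rw [Ce, ← conj_centralizer_singleton, card_conj, h.ch]⟩

theorem cz : Nat.card (zpowers z) = 2 := by rw [Nat.card_zpowers, h.ord]

theorem cent5 (hf : f ∈ Ce z) (h5 : orderOf f = 5) : Q ⊓ Ce f = zpowers z := by
  have h1 := dvd_diff Nat.prime_five h5 (X := Q) fun x hx => h.conj_mem (mem_Ce.1 hf) hx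
  have h2 := ncard_split Q (Ce f)
  rw [← coe_inf, ncard_coe, ncard_coe, h.cq] at h2
  have h3 : Nat.card (Q ⊓ Ce f : Subgroup G) ∣ 32 := h.cq ▸ card_dvd_of_le inf_le_left
  have h4 : zpowers z ≤ Q ⊓ Ce f := zpowers_le.2 ⟨h.mem, mem_Ce.2 (mem_Ce.1 hf).symm⟩
  have h6 : Nat.card (Q ⊓ Ce f : Subgroup G) ≠ 32 := fun e => by
    have h7 := eq_of_le_of_card_ge (inf_le_left : Q ⊓ Ce f ≤ Q) (by rw [e, h.cq])
    have h8 := orderOf_dvd_of_mem_zpowers (h.cQ f fun q hq => mem_Ce.1 (h7.symm ▸ hq : q ∈ Q ⊓ Ce f).2)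
    rw [h5, h.ord] at h8
    omega
  refine (eq_of_le_of_card_ge h4 ?_).symm
  rw [h.cz]
  have := Nat.le_of_dvd (by norm_num) h3
  generalize Nat.card (Q ⊓ Ce f : Subgroup G) = m at *
  interval_cases m <;> omega

theorem card_Q1 (hs : s ∈ Q) (hz : s ∉ zpowers z) : Nat.card (Q ⊓ Ce s : Subgroup G) = 16 := by
  have h1 := card_mul_cls Q s
  obtain ⟨q, hq, e⟩ := h.exists_ne_comm hs hz
  have h2 : cls Q s = {s, z * s} := by
    ext y
    constructor
    · rintro ⟨a, ha, rfl⟩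
      by_cases e' : a * s = s * a
      · left; rw [e', mul_inv_cancel_right]
      · right; exact h.conj_eq_of_ne ha hs e'
    · rintro (rfl | rfl)
      · exact self_mem_cls _ _
      · exact ⟨q, hq, h.conj_eq_of_ne hq hs e⟩
  rw [h2, Set.ncard_pair (by simpa using h.ne_one), h.cq, inf_comm] at h1
  omega

theorem sq_mul (hx : x ∈ Q) (hs : s ∈ Q) (e : s * x ≠ x * s) :
    x * s * (x * s) = z * (x * x) * (s * s) := by
  rw [show x * s * (x * s) = x * (s * x) * s by group, h.mul_eq_of_ne hs hx e,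
    ← mul_assoc x z, h.cent x hx]
  group

theorem sq_eq (hx : x ∈ Q) (e : x * x ≠ 1) : x * x = z := (h.mem_z.1 (h.sq x hx)).resolve_left e

theorem norm_Om : Ce z ≤ normalizer (Om Q z) := fun c hc => mem_normalizer_fintype fun x hx =>
  ⟨h.conj_mem (mem_Ce.1 hc) hx.1, by rw [conj_mul, hx.2.1]; simp, fun e => hx.2.2 (by
    have := h.comm_of_mem_z e (mem_Ce.1 hc)
    rw [inv_mul_cancel_right, mul_right_inj] at this
    rwa [this] at e)⟩

theorem exists_five : ∃ f ∈ Ce z, orderOf f = 5 := by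
  haveI : Fact (Nat.Prime 5) := ⟨Nat.prime_five⟩
  obtain ⟨f, hf⟩ := exists_prime_orderOf_dvd_card' (G := Ce z) 5 (by rw [h.ch]; norm_num)
  exact ⟨f, f.2, by simpa using hf⟩

theorem five_dvd {X : Set G} (h1 : Ce z ≤ normalizer X) (h2 : X ⊆ Om Q z) : 5 ∣ X.ncard := by
  obtain ⟨f, hf, h5⟩ := h.exists_five
  have h3 := dvd_diff Nat.prime_five h5 (X := X) fun x hx => (h1 hf x).1 hx
  have h4 : Disjoint X (Ce f) :=
    Set.disjoint_left.2 fun x hx h4 => (h2 hx).2.2 (h.cent5 hf h5 ▸ ⟨(h2 hx).1, h4⟩)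
  rwa [h4.sdiff_eq_left] at h3

theorem main (hs : s ∈ Om Q z) : (Om Q z).ncard = 10 ∧
    ∀ x ∈ Q, x * s = s * x → x * x = 1 → x ∈ closure ({z, s} : Set G) := by
  obtain ⟨hs, h2, hz⟩ := hs
  have h1 := ncard_split Q (Ce s)
  rw [← coe_inf, ncard_coe, ncard_coe, h.cq, h.card_Q1 hs hz] at h1
  have h3 : ((Q : Set G) \ Ce s) \ Om Q z = (· * s) '' (Om Q z \ Ce s) := by
    ext y
    constructor
    · rintro ⟨⟨h3, h4⟩, h5⟩
      have h4' : s * y ≠ y * s := fun e => h4 (mem_Ce.2 e.symm)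
      have h6 : y * y = z := h.sq_eq h3 fun e => h5 ⟨h3, e, fun e' =>
        h4' (h.comm_of_mem_z e' (h.cent s hs))⟩
      have h7 : y * s ∉ Ce s := fun e => h4 (by
        simpa [mul_assoc, h2] using (Ce s).mul_mem e (mem_Ce.2 rfl))
      refine ⟨y * s, ⟨⟨mul_mem h3 hs, by rw [h.sq_mul h3 hs h4', h6, h.zz, h2, one_mul],
        fun e => h7 (mem_Ce.2 (h.comm_of_mem_z e (h.cent s hs)).symm)⟩, h7⟩, ?_⟩
      simp [mul_assoc, h2]
    · rintro ⟨y, ⟨h3, h4⟩, rfl⟩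
      refine ⟨⟨mul_mem h3.1 hs, fun e => h4 (by
        simpa [mul_assoc, h2] using (Ce s).mul_mem e (mem_Ce.2 rfl))⟩, fun e => h.ne_one ?_⟩
      have := e.2.1
      rwa [h.sq_mul h3.1 hs (fun e => h4 (mem_Ce.2 e.symm)), h3.2.1, h2, mul_one, mul_one] at this
  have h4 := Set.ncard_diff_add_ncard_of_subset (show Om Q z \ Ce s ⊆ (Q : Set G) \ Ce s from
    fun x hx => ⟨hx.1.1, hx.2⟩)
  rw [show ((Q : Set G) \ Ce s) \ (Om Q z \ Ce s) = ((Q : Set G) \ Ce s) \ Om Q z by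
    ext x; simp only [Set.mem_diff]; tauto, h3, Set.ncard_image_of_injective _
    (mul_left_injective s)] at h4
  set Y : Set G := {x | x ∈ Q ⊓ Ce s ∧ x * x = 1}
  have hne : z ≠ s := fun e => hz (e ▸ mem_zpowers z)
  have hV := H11.isKleinFour_closure h.ord (orderOf_eq_prime (by rw [sq, h2])
    fun e : s = 1 => hz (e ▸ one_mem _)) hne (h.cent s hs).symm
  have hVY : ∀ v ∈ closure ({z, s} : Set G), v ∈ Q ⊓ Ce s ∧ ∀ y ∈ Q ⊓ Ce s, v * y = y * v := by
    intro v hv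
    have a1 : z ∈ Q ⊓ Ce s := ⟨h.mem, mem_Ce.2 (h.cent s hs).symm⟩
    have a2 : s ∈ Q ⊓ Ce s := ⟨hs, mem_Ce.2 rfl⟩
    refine ⟨(closure_le _).2 (by simp only [Set.insert_subset_iff, Set.singleton_subset_iff]; exact ⟨a1, a2⟩) hv,
      fun y hy => mem_Ce.1 ((closure_le (Ce y)).2 ?_ hv)⟩
    simp only [Set.insert_subset_iff, Set.singleton_subset_iff]
    exact ⟨mem_Ce.2 (h.cent y hy.1).symm, mem_Ce.2 (mem_Ce.1 hy.2).symm⟩
  have h5 : 4 ∣ Y.ncard := (H11.isKleinFour_iff.1 hV).1 ▸ card_dvd_ncard fun y hy v hv =>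
    ⟨mul_mem hy.1 (hVY v hv).1, by
      rw [mul_assoc, ← mul_assoc v, (hVY v hv).2 y hy.1, mul_assoc, H11.klein_sq hV hv, mul_one,
        hy.2]⟩
  have h6 : Y.ncard ≤ 16 := h.card_Q1 hs hz ▸ Set.ncard_le_ncard fun x hx => hx.1
  have h7 := Set.ncard_diff_add_ncard_of_subset (show (zpowers z : Set G) ⊆ Y from fun x hx =>
    ⟨⟨h.zpowers_le hx, mem_Ce.2 (h.comm_of_mem_z hx (h.cent s hs)).symm⟩, h.sq_of_mem_z hx⟩)
  rw [show Y \ zpowers z = Om Q z ∩ Ce s by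
    ext x; simp only [Y, Om, Set.mem_diff, Set.mem_setOf_eq, Set.mem_inter_iff, mem_inf,
      SetLike.mem_coe]; tauto, ncard_coe, h.cz] at h7
  have h8 := ncard_split (Om Q z) (Ce s)
  have h9 := h.five_dvd h.norm_Om le_rfl
  refine ⟨by omega, fun x hx e1 e2 => ?_⟩
  have h10 : (closure ({z, s} : Set G) : Set G) = Y := Set.eq_of_subset_of_ncard_le
    (fun v hv => ⟨(hVY v hv).1, H11.klein_sq hV hv⟩)
    (by rw [ncard_coe, (H11.isKleinFour_iff.1 hV).1]; omega)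
  exact (h10.symm ▸ ⟨⟨hx, mem_Ce.2 e1⟩, e2⟩ : x ∈ (closure ({z, s} : Set G) : Set G))

theorem cls_eq (hs : s ∈ Om Q z) : cls (Ce z) s = Om Q z := by
  have h1 := cls_subset h.norm_Om hs
  have h2 := h.five_dvd (X := cls (Ce z) s) (fun c hc => mem_normalizer_fintype
    fun _ ⟨k, hk, e⟩ => ⟨c * k, mul_mem hc hk, by rw [← e]; group⟩) h1
  have h3 : Nat.card (zpowers z) ∣ (cls (Ce z) s).ncard := card_dvd_ncard fun y hy v hv => by
    rcases h.mem_z.1 hv with rfl | rfl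
    · simpa using hy
    obtain ⟨q, hq, e⟩ := h.exists_ne_comm (h1 hy).1 (h1 hy).2.2
    obtain ⟨k, hk, e'⟩ := hy
    refine ⟨q * k, mul_mem (h.le_centralizer hq) hk, ?_⟩
    rw [h.cent y (h1 ⟨k, hk, e'⟩).1, ← h.conj_eq_of_ne hq (h1 ⟨k, hk, e'⟩).1 e, ← e']
    group
  have h4 : 0 < (cls (Ce z) s).ncard := (Set.ncard_pos (Set.toFinite _)).2 ⟨s, self_mem_cls _ _⟩
  rw [h.cz] at h3
  exact Set.eq_of_subset_of_ncard_le h1 (by rw [(h.main hs).1]; omega)

theorem card_C (hs : s ∈ Om Q z) : Nat.card (Ce s ⊓ Ce z : Subgroup G) = 192 := by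
  have h1 := card_mul_cls (Ce z) s
  rw [h.cls_eq hs, (h.main hs).1, h.ch] at h1
  omega

end JW

end Cfsg.Agent.J2T
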