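import Cfsg.Agent.J2T.A

/-! Groups of Hall–Janko type: the subgroup `R` of order 64. -/

set_option autoImplicit false
set_option linter.unusedSectionVars false

namespace Cfsg.Agent.J2T

open Subgroup Cfsg.Agent.H10
open scoped commutatorElement

variable {G : Type*} [Group G] [Finite G]

abbrev Vs (z s : G) : Subgroup G := closure ({z, s} : Set G)
abbrev CV (z s : G) : Subgroup G := centralizer (Vs z s : Set G)
abbrev NV (z s : G) : Subgroup G := normalizer (Vs z s : Set G)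

theorem Vs_comm (z s : G) : Vs s z = Vs z s := by rw [Vs, Set.pair_comm]

theorem fix_of_sq {a x : G} (ha : a ^ 3 = 1) (h : a * (a * x * a⁻¹) * a⁻¹ = x) :
    a * x * a⁻¹ = x := by
  have h1 : a * (a * (a * x * a⁻¹) * a⁻¹) * a⁻¹ = a ^ 3 * x * (a ^ 3)⁻¹ := by
    rw [pow_three]; simp only [mul_assoc, mul_inv_rev]
  rwa [h, ha, one_mul, inv_one, mul_one] at h1

theorem card_syl {p k m : ℕ} [hp : Fact p.Prime] {P K : Subgroup G} (h : H1.IsSylowIn p P K)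
    (e : Nat.card K = p ^ k * m) (hm : ¬ p ∣ m) : Nat.card P = p ^ k := by
  rw [h.card_eq_pow, e, Nat.factorization_mul (pow_ne_zero _ hp.out.ne_zero)
    (by rintro rfl; simp at hm), Finsupp.add_apply, hp.out.factorization_pow,
    Nat.factorization_eq_zero_of_not_dvd hm]
  simp

structure JP (Q P : Subgroup G) (z s : G) : Prop where
  l : LPr Q P z s
  wq : JW Q z
  wp : JW P s

namespace JP

variable {Q P : Subgroup G} {z s x y q r σ : G} (h : JP Q P z s)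
include h

theorem symm : JP P Q s z := ⟨h.l.symm, h.wp, h.wq⟩

theorem sOm : s ∈ Om Q z := ⟨h.l.tQ, h.wp.zz, h.l.pr.t_not⟩

theorem memV (hx : x ∈ Q) (e1 : x * s = s * x) (e2 : x * x = 1) : x ∈ Vs z s :=
  (h.wq.main h.sOm).2 x hx e1 e2

theorem sqQ (hx : x ∈ Q ⊓ Ce s) (hV : x ∉ Vs z s) : x * x = z :=
  h.wq.sq_eq hx.1 fun e => hV (h.memV hx.1 (mem_Ce.1 hx.2) e)

theorem sqP (hx : x ∈ P ⊓ Ce z) (hV : x ∉ Vs z s) : x * x = s :=
  h.symm.sqQ hx (Vs_comm z s ▸ hV)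

theorem memQP (h1 : x ∈ Q) (h2 : x ∈ P) : x ∈ Vs z s :=
  h.memV h1 (h.wp.cent x h2) (h.l.pr.eq_one (h.wq.sq x h1) (h.wp.sq x h2))

theorem klein : IsKleinFour (Vs z s) :=
  H11.isKleinFour_closure h.wq.ord h.wp.ord h.l.ne.symm h.l.pr.tz.symm

theorem cardV : Nat.card (Vs z s) = 4 := (H11.isKleinFour_iff.1 h.klein).1

theorem C_eq : CV z s = Ce s ⊓ Ce z := by
  ext c; rw [Pr.mem_cV, mem_inf, mem_Ce, mem_Ce, and_comm]

theorem cardC : Nat.card (CV z s) = 192 := by rw [h.C_eq, h.wq.card_C h.sOm]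

theorem cardM : Nat.card (NV z s) = 1152 := by
  rw [← H1.card_mul_relIndex (centralizer_le_normalizer _ : CV z s ≤ NV z s),
    h.l.pr.relIndex_eq h.l.pr.sup_le_norm le_rfl, h.cardC]

theorem VC : Vs z s ≤ CV z s := fun _ hv _ hw => H11.klein_comm h.klein hw hv

theorem VQ1 : Vs z s ≤ Q ⊓ Ce s := le_inf h.l.pr.V_le (h.VC.trans (h.C_eq.le.trans inf_le_left))

theorem VP1 : Vs z s ≤ P ⊓ Ce z := Vs_comm z s ▸ h.symm.VQ1

theorem VR : Vs z s ≤ RR Q P z s := h.VQ1.trans le_sup_right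

theorem cardQ1 : Nat.card (Q ⊓ Ce s : Subgroup G) = 16 := h.wq.card_Q1 h.l.tQ h.l.pr.t_not

theorem cardR : Nat.card (RR Q P z s) = 64 := by
  have h1 := H1.card_sup_mul_card_inf h.l.B_le_norm
  rw [show P ⊓ Ce z ⊓ (Q ⊓ Ce s) = Vs z s from le_antisymm (fun x hx => h.memQP hx.2.1 hx.1.1)
    (le_inf h.VP1 h.VQ1), h.cardV, h.cardQ1, h.symm.cardQ1] at h1
  have : Nat.card (RR Q P z s) * 4 = 16 * 16 := h1
  omega

theorem R_dec (hr : r ∈ RR Q P z s) : ∃ b ∈ P ⊓ Ce z, ∃ a ∈ Q ⊓ Ce s, b * a = r :=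
  (H1.mem_sup_of_le_normalizer_left h.l.B_le_norm).1 hr

theorem Rz (hr : r ∈ RR Q P z s) : r * z = z * r := (Pr.mem_cV.1 (h.l.R_le hr)).1

theorem Rs (hr : r ∈ RR Q P z s) : r * s = s * r := (Pr.mem_cV.1 (h.l.R_le hr)).2

theorem RV (hr : r ∈ RR Q P z s) (hx : x ∈ Vs z s) : x * r = r * x := h.l.R_le hr x hx

theorem C_norm1 : CV z s ≤ normalizer ((Q ⊓ Ce s : Subgroup G) : Set G) :=
  H1.le_normalizer_inf h.l.cV_le ((h.C_eq.le.trans inf_le_left).trans le_normalizer)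

theorem C_norm2 : CV z s ≤ normalizer ((P ⊓ Ce z : Subgroup G) : Set G) :=
  H1.le_normalizer_inf h.l.cV_le' ((h.C_eq.le.trans inf_le_right).trans le_normalizer)

theorem M_norm : NV z s ≤ normalizer (RR Q P z s : Set G) :=
  h.l.normalizer_V.le.trans (sup_le h.l.X_le_norm (H1.le_normalizer_sup h.C_norm2 h.C_norm1))

theorem commR (hx : x ∈ RR Q P z s) (hy : y ∈ RR Q P z s) : ⁅x, y⁆ ∈ Vs z s := by
  have hN : CV z s ≤ NV z s := centralizer_le_normalizer _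
  have a1 : zpowers z ≤ Vs z s := zpowers_le.2 Pr.z_mem
  have a2 : zpowers s ≤ Vs z s := zpowers_le.2 Pr.t_mem
  have a3 : ∀ b ∈ P ⊓ Ce z, ∀ a ∈ Q ⊓ Ce s, ⁅b, a⁆ ∈ Vs z s := fun b hb a ha =>
    h.memQP (h.wq.comm_mem' (mem_Ce.1 hb.2) ha.1) (by
      rw [← commutatorElement_inv]; exact inv_mem (h.wp.comm_mem' (mem_Ce.1 ha.2) hb.1))
  have key : ∀ B : Subgroup G, (∀ b ∈ P ⊓ Ce z, ∀ a ∈ B, ⁅b, a⁆ ∈ Vs z s) →
      (∀ b ∈ Q ⊓ Ce s, ∀ a ∈ B, ⁅b, a⁆ ∈ Vs z s) → ∀ b ∈ RR Q P z s, ∀ a ∈ B, ⁅b, a⁆ ∈ Vs z s :=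
    fun B h1 h2 b hb => (mem_cmod.1 ((sup_le (fun b hb => mem_cmod.2 ⟨h.l.R_le (mem_sup_left hb),
      h1 b hb⟩) (fun b hb => mem_cmod.2 ⟨h.l.R_le (mem_sup_right hb), h2 b hb⟩) :
        _ ≤ cmod _ B _ hN) hb)).2
  have sw : ∀ a b : G, ⁅a, b⁆ ∈ Vs z s → ⁅b, a⁆ ∈ Vs z s := fun a b e => by
    rw [← commutatorElement_inv]; exact inv_mem e
  exact key _ (fun b hb a ha => sw _ _ (key (P ⊓ Ce z)
    (fun b hb a ha => a2 (h.wp.comm_mem hb.1 ha.1))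
    (fun b hb a ha => sw _ _ (a3 a ha b hb)) a ha b hb)) (fun b hb a ha => sw _ _ (key _ a3
      (fun b hb a ha => a1 (h.wq.comm_mem hb.1 ha.1)) a ha b hb)) x hx y hy

theorem sqR (hr : r ∈ RR Q P z s) : r * r ∈ Vs z s := by
  obtain ⟨b, hb, a, ha, rfl⟩ := h.R_dec hr
  have := mul_mem (mul_mem (zpowers_le.2 Pr.t_mem (h.wp.sq b hb.1))
    (h.commR (inv_mem (mem_sup_left hb)) (mem_sup_right ha)))
    (zpowers_le.2 (Pr.z_mem (t := s)) (h.wq.sq a ha.1))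
  convert this using 1
  rw [commutatorElement_def]; group

theorem memQ (hq : q ∈ Q) (e : q * s ≠ s * q) (hr : r ∈ RR Q P z s) (hc : ⁅q, r⁆ ∈ Vs z s) :
    r ∈ Q := by
  obtain ⟨b, hb, a, ha, rfl⟩ := h.R_dec hr
  refine mul_mem (h.l.pr.V_le (by_contra fun hV => e ?_)) ha.1
  have h1 : ⁅q, a⁆⁻¹ ∈ Vs z s := inv_mem (zpowers_le.2 Pr.z_mem (h.wq.comm_mem hq ha.1))
  have h2 : q * b * q⁻¹ = ⁅q, b * a⁆ * ⁅q, a⁆⁻¹ * b := by
    rw [mul_assoc _ _ b, h.RV (mem_sup_left hb) h1]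
    simp only [commutatorElement_def]; group
  have h3 := mul_mem hc h1
  generalize ⁅q, b * a⁆ * ⁅q, a⁆⁻¹ = v at h2 h3
  have h4 : q * (b * b) * q⁻¹ = b * b := by
    rw [← conj_mul, h2, mul_assoc, ← mul_assoc b, ← h.RV (mem_sup_left hb) h3, mul_assoc,
      ← mul_assoc, H11.klein_sq h.klein h3, one_mul]
  rwa [h.sqP hb hV, mul_inv_eq_iff_eq_mul] at h4

theorem fpfQ (hσ : σ ∈ CV z s) (h3 : orderOf σ = 3) : Q ⊓ Ce s ⊓ Ce σ ≤ Vs z s := by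
  have h1 := dvd_diff Nat.prime_three h3 (X := (Q ⊓ Ce s : Subgroup G))
    fun x hx => (h.C_norm1 hσ x).1 hx
  have h2 := ncard_split (Q ⊓ Ce s : Subgroup G) (Ce σ)
  rw [← coe_inf, ncard_coe, ncard_coe, h.cardQ1] at h2
  have h4 : Vs z s ≤ Q ⊓ Ce s ⊓ Ce σ := le_inf h.VQ1 fun v hv => mem_Ce.2 (hσ v hv)
  have h5 : Nat.card (Q ⊓ Ce s ⊓ Ce σ : Subgroup G) ∣ 16 := h.cardQ1 ▸ card_dvd_of_le inf_le_left
  have h6 : Nat.card (Q ⊓ Ce s ⊓ Ce σ : Subgroup G) ≠ 16 := fun e => by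
    have h7 := eq_of_le_of_card_ge (inf_le_left : Q ⊓ Ce s ⊓ Ce σ ≤ _) (by rw [e, h.cardQ1])
    have h8 := H1.le_centralizer_of_commutator_le (A := zpowers σ) (K := Q) (N := Q ⊓ Ce s)
      (by rw [Nat.card_zpowers, h3, h.cardQ1]; norm_num)
      ((commutator_mono le_rfl (zpowers_le.2 hσ)).trans h.l.comm_Q)
      (zpowers_le.2 fun x hx => mem_Ce.1 (h7.ge hx).2)
    have h9 := orderOf_dvd_of_mem_zpowers (h.wq.cQ σ (h8 (mem_zpowers σ)))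
    rw [h3, h.wq.ord] at h9
    omega
  refine (eq_of_le_of_card_ge h4 ?_).ge
  rw [h.cardV]
  have := Nat.le_of_dvd (by norm_num) h5
  generalize Nat.card (Q ⊓ Ce s ⊓ Ce σ : Subgroup G) = m at *
  interval_cases m <;> omega

theorem fpf (hσ : σ ∈ CV z s) (h3 : orderOf σ = 3) (hr : r ∈ RR Q P z s) (e : r * σ = σ * r) :
    r ∈ Vs z s := by
  have h1 := H1.sup_inf_centralizer_eq (A := zpowers σ) h.l.B_le_norm
    (zpowers_le.2 (h.C_norm2 hσ)) (zpowers_le.2 (h.C_norm1 hσ)) (by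
      rw [Nat.card_zpowers, h3]
      exact (show Nat.Coprime 3 16 by norm_num).coprime_dvd_right
        (h.cardQ1 ▸ card_dvd_of_le inf_le_right)) (Or.inl (H1.isSolvable_zpowers σ))
  rw [centralizer_zpowers] at h1
  exact sup_le (Vs_comm z s ▸ h.symm.fpfQ (by rw [CV, Vs_comm]; exact hσ) h3) (h.fpfQ hσ h3)
    (h1.le ⟨hr, mem_Ce.2 e⟩)

theorem conjV (hy : y ∈ NV z s) (hx : x ∈ Vs z s) (h1 : x ≠ 1) :
    y * x * y⁻¹ = z ∨ y * x * y⁻¹ = s ∨ y * x * y⁻¹ = z * s :=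
  (h.l.pr.mem_V.1 ((hy x).1 hx)).resolve_left (by simpa using h1)

theorem memC (hy : y ∈ NV z s) (h3 : y ^ 3 = 1) (e : y * z * y⁻¹ = z) : y ∈ CV z s := by
  refine Pr.mem_cV.2 ⟨mul_inv_eq_iff_eq_mul.1 e, mul_inv_eq_iff_eq_mul.1 ?_⟩
  rcases h.conjV hy Pr.t_mem h.wp.ne_one with h1 | h1 | h1
  · exact absurd (conj_injective y (h1.trans e.symm)) h.l.ne
  · exact h1
  · exact fix_of_sq h3 (by rw [h1, ← conj_mul, e, h1, ← mul_assoc, h.wq.zz, one_mul])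

theorem rot (hy : y ∈ NV z s) (h3 : y ^ 3 = 1) (e : y * z * y⁻¹ = s) : y * s * y⁻¹ = z * s := by
  rcases h.conjV hy Pr.t_mem h.wp.ne_one with h1 | h1 | h1
  · exact absurd (e.symm.trans (fix_of_sq h3 (by rw [e, h1]))) h.l.ne
  · exact absurd (conj_injective y (h1.trans e.symm)) h.l.ne
  · exact h1

end JP

structure JD (Q P : Subgroup G) (z s σ ρ t : G) : Prop extends JP Q P z s where
  σC : σ ∈ CV z s
  oσ : orderOf σ = 3
  oρ : orderOf ρ = 3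
  ρz : ρ * z * ρ⁻¹ = s
  ρM : ρ ∈ NV z s
  σρ : σ * ρ = ρ * σ
  tR : t ∈ RR Q P z s
  t1 : t ≠ 1
  tρ : t * ρ = ρ * t

theorem JP.exists_jd {Q P : Subgroup G} {z s : G} (h : JP Q P z s) :
    ∃ σ ρ t, JD Q P z s σ ρ t := by
  haveI : Fact (Nat.Prime 3) := ⟨Nat.prime_three⟩
  obtain ⟨D, hD⟩ := H1.exists_isSylowIn 3 (NV z s)
  have h1 : Nat.card D = 3 ^ 2 := card_syl (m := 128) hD h.cardM (by norm_num)
  have h2 := hD.inf (N := CV z s) (centralizer_le_normalizer _)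
    (hD.le.trans (normalizer_le_normalizer_centralizer _))
  have h3 : Nat.card (D ⊓ CV z s : Subgroup G) = 3 :=
    card_syl (k := 1) (m := 64) h2 h.cardC (by norm_num)
  have h4 : ∀ d ∈ D ⊓ CV z s, d ≠ 1 → orderOf d = 3 := fun d hd e =>
    ((Nat.dvd_prime Nat.prime_three).1 (h3 ▸ (D ⊓ CV z s).orderOf_dvd_natCard hd)).resolve_left
      (by simpa using e)
  obtain ⟨σ, hσ, hσ1⟩ : ∃ σ ∈ D ⊓ CV z s, σ ≠ 1 :=
    (bot_or_exists_ne_one _).resolve_left fun e => by simp [e] at h3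
  have hc : ∀ a ∈ D, ∀ b ∈ D, a * b = b * a := fun a ha b hb => congrArg Subtype.val
    ((IsPGroup.commGroupOfCardEqPrimeSq h1).mul_comm ⟨a, ha⟩ ⟨b, hb⟩)
  obtain ⟨d, hd, hd1, r, hr, e⟩ : ∃ d ∈ D, d ≠ 1 ∧ ∃ r ∈ (RR Q P z s : Set G) \ Vs z s,
      r * d = d * r := by
    by_contra hn
    push Not at hn
    have h5 := dvd_ncard (H := D) (d := 9) _ ((RR Q P z s : Set G) \ Vs z s) rfl
      (fun d hd x => and_congr (h.M_norm (hD.le hd) x) (hD.le hd x).not) fun x hx => by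
        rw [← inf_relIndex_right, show Ce x ⊓ D = ⊥ from eq_bot_iff.2 fun d hd => by_contra
          fun e => hn d hd.2 e x hx (mem_Ce.1 hd.1).symm, relIndex_bot_left, h1]
        norm_num
    rw [Set.ncard_diff h.VR, ncard_coe, ncard_coe, h.cardR, h.cardV] at h5
    omega
  have h5 : ∀ a ∈ D ⊓ CV z s, r * a = a * r → a = 1 := fun a ha e' => by_contra fun e'' =>
    hr.2 (h.fpf ha.2 (h4 a ha e'') hr.1 e')
  have h6 : d ^ 3 = 1 := by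
    refine h5 _ ⟨pow_mem hd 3, ?_⟩ (Commute.pow_right e 3)
    have h6 : (D ⊓ CV z s).relIndex D = 3 := by
      have := H1.card_mul_relIndex (inf_le_left : D ⊓ CV z s ≤ D)
      rw [h3, h1] at this; omega
    haveI : ((D ⊓ CV z s).subgroupOf D).Normal := ⟨fun a ha b => by
      rwa [show b * a * b⁻¹ = a from Subtype.ext (by simp [hc b b.2 a a.2])]⟩
    exact (h6 ▸ pow_index_mem ((D ⊓ CV z s).subgroupOf D) ⟨d, hd⟩ :
      (⟨d, hd⟩ : D) ^ 3 ∈ (D ⊓ CV z s).subgroupOf D).2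
  have h7 : ∀ ρ ∈ D, ρ ≠ 1 → ρ ^ 3 = 1 → r * ρ = ρ * r → ρ * z * ρ⁻¹ = s →
      ∃ σ ρ t, JD Q P z s σ ρ t := fun ρ a1 a2 a3 a4 a5 => ⟨σ, ρ, r, h, hσ.2, h4 σ hσ hσ1,
    orderOf_eq_prime a3 a2, a5, hD.le a1, hc σ hσ.1 ρ a1, hr.1, fun e => hr.2 (e ▸ one_mem _), a4⟩
  rcases h.conjV (hD.le hd) Pr.z_mem h.wq.ne_one with h8 | h8 | h8
  · exact absurd (h5 d ⟨hd, h.memC (hD.le hd) h6 h8⟩ e) hd1
  · exact h7 d hd hd1 h6 e h8
  refine h7 d⁻¹ (inv_mem hd) (by simpa) (by simp [h6]) (Commute.inv_right e) ?_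
  rcases h.conjV (hD.le hd) Pr.t_mem h.wp.ne_one with h9 | h9 | h9
  · rw [← h9]; group
  · exact absurd (h8.symm.trans (fix_of_sq h6 (by
      rw [h8, ← conj_mul, h8, h9, mul_assoc, h.wp.zz, mul_one]))) (by simpa using h.wp.ne_one)
  · exact absurd (conj_injective d (h9.trans h8.symm)) h.l.ne

end Cfsg.Agent.J2T
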