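import Cfsg.Agent.J2T.B

/-! Groups of Hall–Janko type: the second class of involutions. -/

set_option autoImplicit false
set_option linter.unusedSectionVars false

namespace Cfsg.Agent.J2T

open Subgroup Cfsg.Agent.H10
open scoped commutatorElement Pointwise

variable {G : Type*} [Group G] [Finite G]

theorem syl_of_card {p k m : ℕ} [hp : Fact p.Prime] {P K : Subgroup G} (h : P ≤ K)
    (e1 : Nat.card P = p ^ k) (e : Nat.card K = p ^ k * m) (hm : ¬ p ∣ m) : H1.IsSylowIn p P K := by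
  have h1 := H1.card_mul_relIndex h
  rw [e1, e, mul_right_inj' (pow_ne_zero _ hp.out.ne_zero)] at h1
  exact ⟨h, IsPGroup.of_card e1, h1 ▸ hm⟩

theorem exists_ord {p : ℕ} (hp : p.Prime) {K : Subgroup G} (h : p ∣ Nat.card K) :
    ∃ x ∈ K, orderOf x = p := by
  haveI := Fact.mk hp
  obtain ⟨x, hx⟩ := exists_prime_orderOf_dvd_card' (G := K) p h
  exact ⟨x, x.2, by simpa using hx⟩

theorem pgrp_zp {p : ℕ} {x : G} (hx : x ^ p = 1) : IsPGroup p (zpowers x) := by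
  rintro ⟨_, k, rfl⟩
  refine ⟨1, Subtype.ext ?_⟩
  simp only [pow_one, SubmonoidClass.coe_pow, OneMemClass.coe_one]
  rw [← zpow_natCast, ← zpow_mul, mul_comm, zpow_mul, zpow_natCast, hx, one_zpow]

abbrev UU (Q P : Subgroup G) (z s ρ : G) : Subgroup G := RR Q P z s ⊓ Ce ρ
abbrev AA (Q P : Subgroup G) (z s ρ : G) : Subgroup G := Vs z s ⊔ UU Q P z s ρ

namespace JP

variable {Q P : Subgroup G} {z s x y q r σ : G} (h : JP Q P z s)
include h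

theorem RH : RR Q P z s ≤ Ce z := fun _ hr => mem_Ce.2 (h.Rz hr)

theorem RM : RR Q P z s ≤ NV z s := h.l.R_le.trans (centralizer_le_normalizer _)

theorem T_le : Q ⊔ RR Q P z s ≤ Ce z ⊓ NV z s :=
  sup_le (le_inf h.wq.le_centralizer h.l.pr.le_norm) (le_inf h.RH h.RM)

theorem cardT : Nat.card (Q ⊔ RR Q P z s : Subgroup G) = 2 ^ 7 := by
  have h1 := H1.card_sup_mul_card_inf (N := Q) (h.RH.trans h.wq.nQ)
  rw [show Q ⊓ RR Q P z s = Q ⊓ Ce s from le_antisymm (fun x hx => ⟨hx.1, mem_Ce.2 (h.Rs hx.2)⟩)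
    (le_inf inf_le_left le_sup_right), h.cardQ1, h.wq.cq, h.cardR] at h1
  omega

theorem sylT : H1.IsSylowIn 2 (Q ⊔ RR Q P z s) (Ce z) :=
  syl_of_card (m := 15) (h.T_le.trans inf_le_left) h.cardT h.wq.ch (by norm_num)

theorem sylT' : H1.IsSylowIn 2 (Q ⊔ RR Q P z s) ⊤ :=
  H1.isSylowIn_of_isSylowIn_normalizer (h.sylT.of_le (le_inf le_normalizer le_top)
    (inf_le_left.trans (h.wq.normalizer_le_of_le h.sylT.isPGroup le_sup_left)))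

theorem T_dec (hy : y ∈ Q ⊔ RR Q P z s) : y ∈ RR Q P z s ∨
    ∃ q ∈ Q, ∃ r ∈ RR Q P z s, q * s ≠ s * q ∧ y = q * r := by
  obtain ⟨q, hq, r, hr, rfl⟩ := (H1.mem_sup_of_le_normalizer_left (h.RH.trans h.wq.nQ)).1 hy
  by_cases e : q * s = s * q
  · exact Or.inl (mul_mem (mem_sup_right ⟨hq, mem_Ce.2 e⟩) hr)
  · exact Or.inr ⟨q, hq, r, hr, e, rfl⟩

end JP

namespace JD

variable {Q P : Subgroup G} {z s σ ρ t x y u a : G} (h : JD Q P z s σ ρ t)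
include h

theorem ρ3 : ρ ^ 3 = 1 := h.oρ ▸ pow_orderOf_eq_one ρ

theorem ρs : ρ * s * ρ⁻¹ = z * s := h.rot h.ρM h.ρ3 h.ρz

theorem ρzs : ρ * (z * s) * ρ⁻¹ = z := by
  rw [← conj_mul, h.ρz, h.ρs, ← mul_assoc, h.l.pr.tz, mul_assoc, h.wp.zz, mul_one]

theorem rotV {p : G → Prop} (hp : ∀ v, p v → p (ρ * v * ρ⁻¹)) (hx : x ∈ Vs z s) (h1 : x ≠ 1)
    (h2 : p x) : p z ∧ p s ∧ p (z * s) := by
  have a1 : p z → p s := fun e => h.ρz ▸ hp z e
  have a2 : p s → p (z * s) := fun e => h.ρs ▸ hp s e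
  have a3 : p (z * s) → p z := fun e => h.ρzs ▸ hp _ e
  rcases h.l.pr.mem_V.1 hx with rfl | rfl | rfl | rfl <;> tauto

theorem Vfix (hx : x ∈ Vs z s) (e : x * ρ = ρ * x) : x = 1 := by
  by_contra h1
  have := (h.rotV (p := fun v => v = x) (fun v e' => by rw [e', ← e, mul_inv_cancel_right])
    hx h1 rfl)
  exact h.l.ne (this.2.1.trans this.1.symm)

theorem tU : t ∈ UU Q P z s ρ := ⟨h.tR, mem_Ce.2 h.tρ⟩

theorem swap (hu : u ∈ UU Q P z s ρ) (h1 : u ≠ 1) : JD Q P z s σ ρ u :=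
  ⟨h.toJP, h.σC, h.oσ, h.oρ, h.ρz, h.ρM, h.σρ, hu.1, h1, mem_Ce.1 hu.2⟩

theorem UQ (hu : u ∈ UU Q P z s ρ) (hq : u ∈ Q) : u = 1 := by
  have h1 := h.l.cj ρ h.ρz ▸ conj_mem_conj ρ hq
  rw [← mem_Ce.1 hu.2, mul_inv_cancel_right] at h1
  exact h.Vfix (h.memQP hq h1) (mem_Ce.1 hu.2)

theorem tQ : t ∉ Q := fun e => h.t1 (h.UQ h.tU e)

theorem Usq (hu : u ∈ UU Q P z s ρ) : u * u = 1 :=
  h.Vfix (h.sqR hu.1) (mem_Ce.1 (mul_mem hu.2 hu.2))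

theorem tt : t * t = 1 := h.Usq h.tU

theorem ot : orderOf t = 2 := orderOf_eq_prime (by rw [sq, h.tt]) h.t1

theorem cardU : Nat.card (UU Q P z s ρ) = 4 := by
  have h1 := dvd_diff Nat.prime_three h.oρ (X := RR Q P z s) fun x hx => (h.M_norm h.ρM x).1 hx
  have h2 := ncard_split (RR Q P z s) (Ce ρ)
  rw [← coe_inf, ncard_coe, ncard_coe, h.cardR] at h2
  have h3 := H1.card_sup_of_disjoint (N := Q ⊓ Ce s) (H := UU Q P z s ρ)
    (inf_le_left.trans (h.l.R_le.trans h.C_norm1))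
    (eq_bot_iff.2 fun x hx => h.UQ hx.2 hx.1.1)
  have h4 := card_le_of_le (sup_le le_sup_right inf_le_left :
    Q ⊓ Ce s ⊔ UU Q P z s ρ ≤ RR Q P z s)
  rw [h3, h.cardQ1, h.cardR] at h4
  have h5 : Nat.card (UU Q P z s ρ) ≠ 1 := fun e => h.t1 (mem_bot.1 (card_eq_one.1 e ▸ h.tU))
  have h6 : Nat.card (UU Q P z s ρ) = Nat.card (RR Q P z s ⊓ Ce ρ : Subgroup G) := rfl
  omega

theorem kleinU : IsKleinFour (UU Q P z s ρ) := H11.isKleinFour_iff.2 ⟨h.cardU, fun _ => h.Usq⟩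

theorem UM : UU Q P z s ρ ≤ NV z s := inf_le_left.trans h.RM

theorem A_dec (ha : a ∈ AA Q P z s ρ) : ∃ v ∈ Vs z s, ∃ u ∈ UU Q P z s ρ, v * u = a :=
  (H1.mem_sup_of_le_normalizer_left h.UM).1 ha

theorem cardA : Nat.card (AA Q P z s ρ) = 16 := by
  rw [H1.card_sup_of_disjoint h.UM (eq_bot_iff.2 fun x hx => h.Vfix hx.1 (mem_Ce.1 hx.2.2)),
    h.cardV, h.cardU]

theorem AR : AA Q P z s ρ ≤ RR Q P z s := sup_le h.VR inf_le_left

theorem Asq (ha : a ∈ AA Q P z s ρ) : a * a = 1 := by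
  obtain ⟨v, hv, u, hu, rfl⟩ := h.A_dec ha
  rw [mul_assoc, ← mul_assoc u, ← h.RV hu.1 hv, mul_assoc, h.Usq hu, mul_one,
    H11.klein_sq h.klein hv]

theorem Acomm (hx : x ∈ AA Q P z s ρ) (hy : y ∈ AA Q P z s ρ) : x * y = y * x :=
  H11.comm_of_sq_eq_one (fun _ => h.Asq) hx hy

theorem tA : t ∈ AA Q P z s ρ := mem_sup_right h.tU

theorem AQ (ha : a ∈ AA Q P z s ρ) (hq : a ∈ Q) : a ∈ Vs z s := by
  obtain ⟨v, hv, u, hu, rfl⟩ := h.A_dec ha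
  rwa [h.UQ hu ((Q.mul_mem_cancel_left (h.l.pr.V_le hv)).1 hq), mul_one]

theorem At : AA Q P z s ρ ≤ Ce t := fun _ ha => mem_Ce.2 (h.Acomm ha h.tA)

theorem CR : Ce t ⊓ RR Q P z s = AA Q P z s ρ := by
  refine (eq_of_le_of_card_ge (le_inf h.At h.AR) ?_).symm
  obtain ⟨r, hr, e⟩ : ∃ r ∈ RR Q P z s, ⁅r, t⁆ ≠ 1 := by
    by_contra hn
    simp only [not_exists, not_and, not_not, commutatorElement_eq_one_iff_mul_comm] at hn
    obtain ⟨q, hq, e⟩ := h.l.pr.exists_q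
    refine h.tQ (h.memQ hq e h.tR (h.l.pr.mem_V_of (h.wq.mem_of_cent_cent' h.l.tQ h.l.pr.t_not
      (by rw [← commutatorElement_inv]; exact inv_mem (h.wq.comm_mem' (h.Rz h.tR) hq))
      fun r hr e' => (mem_Ce.1 ?_).symm)))
    have hr' : r ∈ RR Q P z s := mem_sup_right ⟨hr, mem_Ce.2 e'⟩
    have h1 := hn _ (H1.conj_mem_of_le_normalizer' h.l.Q_le_norm hq hr')
    refine mul_mem (mem_Ce.2 ?_) (inv_mem (mem_Ce.2 (hn r hr').symm))
    calc _ = q * (t * (q⁻¹ * r * q)) * q⁻¹ := by group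
      _ = _ := by rw [← h1]; group
  have h1 := h.rotV (p := fun v => ∃ r ∈ RR Q P z s, ⁅r, t⁆ = v) (fun v ⟨r, hr, e⟩ =>
    ⟨_, (h.M_norm h.ρM r).1 hr, by
      rw [← e, conjugate_commutatorElement, ← h.tρ, mul_inv_cancel_right]⟩) (h.commR hr h.tR) e
    ⟨r, hr, rfl⟩
  have h2 : (· * t) '' (Vs z s : Set G) ⊆ cls (RR Q P z s) t := by
    rintro _ ⟨v, hv, rfl⟩
    have : ∃ r ∈ RR Q P z s, ⁅r, t⁆ = v := by
      rcases h.l.pr.mem_V.1 hv with rfl | rfl | rfl | rfl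
      exacts [⟨1, one_mem _, by simp⟩, h1.1, h1.2.1, h1.2.2]
    obtain ⟨r, hr, rfl⟩ := this
    exact ⟨r, hr, by simp [commutatorElement_def]⟩
  have h3 := Set.ncard_le_ncard h2
  rw [Set.ncard_image_of_injective _ (mul_left_injective t), ncard_coe, h.cardV] at h3
  have h4 := card_mul_cls (RR Q P z s) t
  rw [h.cardR] at h4
  rw [h.cardA]
  nlinarith

theorem clsM : cls (NV z s) z = {z, s, z * s} := by
  ext y
  refine ⟨fun ⟨g, hg, e⟩ => e ▸ h.conjV hg Pr.z_mem h.wq.ne_one, fun e => ?_⟩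
  have h1 := h.rotV (p := fun v => v ∈ cls (NV z s) z) (fun v ⟨g, hg, e⟩ =>
    ⟨ρ * g, mul_mem h.ρM hg, by rw [← e]; group⟩) Pr.z_mem h.wq.ne_one (self_mem_cls _ _)
  rcases e with rfl | rfl | rfl
  exacts [h1.1, h1.2.1, h1.2.2]

theorem ncard3 : ({z, s, z * s} : Set G).ncard = 3 :=
  Set.ncard_eq_three.2 ⟨_, _, _, h.l.ne.symm, by simpa using h.wp.ne_one,
    by simpa using h.wq.ne_one, rfl⟩

theorem cardHM : Nat.card (Ce z ⊓ NV z s : Subgroup G) = 384 := by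
  have h1 := card_mul_cls (NV z s) z
  rw [h.clsM, h.ncard3, h.cardM] at h1
  omega

theorem QCt : Q ⊓ Ce t = Vs z s := by
  refine le_antisymm (fun q hq => ?_) (le_inf h.l.pr.V_le (le_sup_left.trans h.At))
  by_cases e : q * s = s * q
  · exact h.AQ (h.CR.le ⟨hq.2, mem_sup_right ⟨hq.1, mem_Ce.2 e⟩⟩) hq.1
  · refine absurd (h.memQ hq.1 e h.tR ?_) h.tQ
    rw [commutatorElement_eq_one_iff_mul_comm.2 (mem_Ce.1 hq.2)]
    exact one_mem _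

theorem CH : Ce t ⊓ Ce z = AA Q P z s ρ := by
  refine le_antisymm (fun y hy => ?_) (le_inf h.At (h.AR.trans h.RH))
  have h1 : Ce t ⊓ Ce z ≤ Ce z ⊓ NV z s := le_inf inf_le_right (by
    rw [NV, ← h.QCt]
    exact H1.le_normalizer_inf (inf_le_right.trans h.wq.nQ) (inf_le_left.trans le_normalizer))
  have h2 : IsPGroup 2 (Ce t ⊓ Ce z : Subgroup G) := by
    have h2 : Nat.card (Ce t ⊓ Ce z : Subgroup G) ∣ 2 ^ 7 * 3 :=
      (card_dvd_of_le h1).trans h.cardHM.dvd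
    have h3 : ¬ 3 ∣ Nat.card (Ce t ⊓ Ce z : Subgroup G) := fun e => by
      obtain ⟨x, hx, e⟩ := exists_ord Nat.prime_three e
      exact h.tQ (h.l.pr.V_le (h.fpf (h.memC (h1 hx).2 (e ▸ pow_orderOf_eq_one x)
        (mul_inv_eq_iff_eq_mul.2 (mem_Ce.1 hx.2))) e h.tR (mem_Ce.1 hx.1).symm))
    obtain ⟨k, -, e⟩ := (Nat.dvd_prime_pow Nat.prime_two).1
      (((Nat.prime_three.coprime_iff_not_dvd).2 h3).symm.dvd_of_dvd_mul_right h2)
    exact IsPGroup.of_card e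
  rcases h.T_dec (h.sylT.le_of_le_normalizer' inf_le_right h2 (h1.trans (H1.le_normalizer_sup
    (inf_le_left.trans h.wq.nQ) (inf_le_right.trans h.M_norm))) hy) with h3 | ⟨q, hq, r, hr, e, rfl⟩
  · exact h.CR.le ⟨hy.1, h3⟩
  refine absurd ((h.wq.nQ (h.RH hr) t).2 (h.memQ hq e (mul_mem (mul_mem hr h.tR) (inv_mem hr))
    ?_)) h.tQ
  have h4 : ⁅q, r * t * r⁻¹⁆ = ⁅t, r⁆ := by
    simp only [commutatorElement_def]
    calc _ = (q * r * t) * (q * r)⁻¹ * (r * t⁻¹ * r⁻¹) := by group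
      _ = _ := by rw [mem_Ce.1 hy.1]; group
  exact h4 ▸ h.commR h.tR hr

theorem mem_cls (hy : y ∈ RR Q P z s) (h2 : y * y = 1) (hV : y ∉ Vs z s) : y ∈ cls (Ce z) t := by
  let f : G → Set G := fun v => {r | r ∈ RR Q P z s ∧ r * r = v}
  have a1 : 12 ≤ (f z).ncard := by
    have := Set.ncard_le_ncard (show ((Q ⊓ Ce s : Subgroup G) : Set G) \ Vs z s ⊆ f z from
      fun x hx => ⟨mem_sup_right hx.1, h.sqQ hx.1 hx.2⟩)
    rwa [Set.ncard_diff h.VQ1, ncard_coe, ncard_coe, h.cardQ1, h.cardV] at this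
  obtain ⟨-, a2, a3⟩ := h.rotV (p := fun v => 12 ≤ (f v).ncard) (fun v e => e.trans
    (Set.ncard_le_ncard_of_injOn (fun x => ρ * x * ρ⁻¹) (fun x hx =>
      ⟨(h.M_norm h.ρM x).1 hx.1, by rw [conj_mul, hx.2]⟩) (conj_injective ρ).injOn))
    Pr.z_mem h.wq.ne_one a1
  have d : ∀ v w, v ≠ w → Disjoint (f v) (f w) := fun v w e =>
    Set.disjoint_left.2 fun x h1 h2 => e (h1.2.symm.trans h2.2)
  have b1 := h.wq.ne_one
  have b2 := h.wp.ne_one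
  have b3 := h.l.ne
  have b4 : z * s ≠ 1 := fun e => b3 (by rw [← h.wq.zz, mul_right_inj] at e; exact e)
  have a4 := Set.ncard_le_ncard (show f 1 ∪ f z ∪ f s ∪ f (z * s) ⊆ RR Q P z s by
    rintro x (((hx | hx) | hx) | hx) <;> exact hx.1)
  rw [Set.ncard_union_eq (by simp [d, b1, b2, b4.symm]),
    Set.ncard_union_eq (by simp [d, b2.symm, b3.symm]), Set.ncard_union_eq (d _ _ b1.symm),
    ncard_coe, h.cardR] at a4
  have a5 := Set.ncard_diff_add_ncard_of_subset (show (Vs z s : Set G) ⊆ f 1 from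
    fun x hx => ⟨h.VR hx, H11.klein_sq h.klein hx⟩)
  rw [ncard_coe, h.cardV] at a5
  have a6 := card_mul_cls (Ce z ⊓ NV z s) t
  rw [← inf_assoc, h.CH, inf_eq_left.2 (h.AR.trans h.RM), h.cardA, h.cardHM] at a6
  have a7 : cls (Ce z ⊓ NV z s) t = f 1 \ Vs z s := Set.eq_of_subset_of_ncard_le (by
    rintro _ ⟨g, hg, rfl⟩
    exact ⟨⟨(h.M_norm hg.2 t).1 h.tR, by rw [conj_mul, h.tt]; simp⟩,
      fun e => h.tQ (h.l.pr.V_le ((hg.2 t).2 e))⟩) (by omega)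
  obtain ⟨g, hg, e⟩ : y ∈ cls (Ce z ⊓ NV z s) t := a7 ▸ ⟨⟨hy, h2⟩, hV⟩
  exact ⟨g, hg.1, e⟩

theorem invT (hy : y ∈ Q ⊔ RR Q P z s) (h2 : y * y = 1) : y ∈ Q ∨ y ∈ cls (Ce z) t := by
  rcases h.T_dec hy with h3 | ⟨q, hq, r, hr, e, rfl⟩
  · exact (em _).imp (fun e => h.l.pr.V_le e) (h.mem_cls h3 h2)
  refine Or.inl (mul_mem hq (h.memQ hq e hr ?_))
  have h3 := inv_mem (mul_mem (h.sqR hr) ((h.RM hr _).1
    (zpowers_le.2 (Pr.z_mem (t := s)) (h.wq.sq q hq))))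
  convert h3 using 1
  rw [commutatorElement_def]
  calc _ = (q * r * (q * r)) * (r * r * (r⁻¹ * (q * q) * r⁻¹⁻¹))⁻¹ * (r * r) * (r * r)⁻¹ := by group
    _ = _ := by
      rw [h2, one_mul, mul_inv_cancel_right, h.wq.comm_of_mem_z (h.wq.sq q hq) (h.Rz hr),
        h.wq.comm_of_mem_z (h.wq.sq q hq) (h.Rz (inv_mem hr))]
      group

theorem conj_zp {K : Subgroup G} (hK : H1.IsSylowIn 2 (Q ⊔ RR Q P z s) K) (hy : y ∈ K)
    (h2 : y * y = 1) : ∃ k ∈ K, k⁻¹ * y * k ∈ Q ∨ k⁻¹ * y * k ∈ cls (Ce z) t := by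
  obtain ⟨k, hk, e⟩ := hK.exists_le_conj (zpowers_le.2 hy) (pgrp_zp (by rw [sq, h2]))
  exact ⟨k, hk, h.invT (H1.mem_conj_smul.1 (e (mem_zpowers y))) (by
    rw [show k⁻¹ * y * k * (k⁻¹ * y * k) = k⁻¹ * (y * y) * k by group, h2]; simp)⟩

theorem invH (hy : y ∈ Ce z) (h2 : y * y = 1) : y ∈ Q ∨ y ∈ cls (Ce z) t := by
  obtain ⟨k, hk, e | ⟨g, hg, e⟩⟩ := h.conj_zp h.sylT hy h2
  · left; simpa [mul_assoc] using h.wq.conj_mem (mem_Ce.1 hk) e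
  · exact Or.inr ⟨k * g, mul_mem hk hg, by
      rw [show k * g * t * (k * g)⁻¹ = k * (g * t * g⁻¹) * k⁻¹ by group, e]; group⟩

theorem conjQ (hy : y ∈ Q) (h2 : y * y = 1) (h1 : y ≠ 1) : IsConj z y := by
  by_cases e : y ∈ zpowers z
  · rw [(h.wq.mem_z.1 e).resolve_left h1]
  obtain ⟨g, -, rfl⟩ : y ∈ cls (Ce z) s := h.wq.cls_eq h.sOm ▸ ⟨hy, h2, e⟩
  exact (isConj_iff.2 ⟨ρ, h.ρz⟩).trans (isConj_iff.2 ⟨g, rfl⟩)

theorem invG (h2 : orderOf y = 2) : IsConj z y ∨ IsConj t y := by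
  have h3 : y * y = 1 := by rw [← sq, ← h2, pow_orderOf_eq_one]
  obtain ⟨k, -, e⟩ := h.conj_zp h.sylT' (mem_top y) h3
  have h4 : IsConj (k⁻¹ * y * k) y := isConj_iff.2 ⟨k, by group⟩
  refine e.imp (fun e => (h.conjQ e ?_ fun e' => ?_).trans h4)
    fun ⟨g, _, e⟩ => (isConj_iff.2 ⟨g, e⟩).trans h4
  · rw [show k⁻¹ * y * k * (k⁻¹ * y * k) = k⁻¹ * (y * y) * k by group, h3]; simp
  · rw [e', isConj_one_right] at h4
    simp [h4] at h2

end JD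

end Cfsg.Agent.J2T
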