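import Cfsg.Agent.J2T.C
import Cfsg.Agent.S3277
import Cfsg.Agent.S0080
import Cfsg.Agent.S0213

/-! Groups of Hall–Janko type: generic lemmas. -/

set_option autoImplicit false
set_option linter.unusedSectionVars false
set_option maxRecDepth 100000

namespace Cfsg.Agent.J2T

open Subgroup Cfsg.Agent.H10 Cfsg.Agent.JR
open scoped commutatorElement Pointwise

variable {G : Type*} [Group G] [Finite G]

theorem four_rec {v r : G} {V : Subgroup G} (hV : IsKleinFour V)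
    (hC : ∀ v ∈ V, v ≠ 1 → Ce v ≤ V) (hv : v ∈ V) (hr : r ^ 3 = 1)
    (hN : r ∈ normalizer (V : Set G)) (hrv : r * v ≠ v * r) :
    Nat.card G = 12 ∨ Nonempty (G ≃* A5) := by
  have hv1 : v ≠ 1 := by rintro rfl; simp at hrv
  have hC' : ∀ v ∈ V, v ≠ 1 → Ce v = V := fun v h1 h2 =>
    le_antisymm (hC v h1 h2) fun w hw => mem_Ce.2 (H11.klein_comm hV hw h1)
  have h4 := (H11.isKleinFour_iff.1 hV).1
  by_cases hE : ∀ E : Subgroup G, E.Normal → IsElementaryAbelian 2 E →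
    Nat.card E ≠ 2 ∧ Nat.card E ≠ 4
  · refine Or.inr (S3277.result v (H11.klein_orderOf hV hv hv1) (by rw [← Ce, hC' v hv hv1, h4])
      (fun c hc => by rw [sq, H11.klein_sq hV (hC v hv hv1 hc)]) ?_ hE)
    rintro ⟨P, N, hn, hc⟩
    obtain ⟨k, hk⟩ := IsPGroup.iff_card.1 P.isPGroup'
    have h1 : r ∈ N := by
      have h1 := pow_index_mem N r
      rw [hc.symm.index_eq_card, hk] at h1
      exact (mem_zpowers_pow_iff.2 ((show Nat.Coprime 2 3 by norm_num).pow_left k |>.coprime_dvd_right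
        (orderOf_dvd_of_pow_eq_one hr)) |> zpowers_le.2 h1)
    have h2 : r * (v * r⁻¹ * v⁻¹) ∈ N := N.mul_mem h1 (hn.conj_mem _ (N.inv_mem h1) v)
    have h3 : r * (v * r⁻¹ * v⁻¹) ∈ V := by
      simpa [mul_assoc] using V.mul_mem ((hN v).1 hv) (V.inv_mem hv)
    have h5 : r * (v * r⁻¹ * v⁻¹) ∈ V ⊓ N := ⟨h3, h2⟩
    rw [inf_eq_bot_of_coprime (by
      rw [h4, ← hc.index_eq_card]
      exact (Nat.prime_two.coprime_iff_not_dvd.2 P.not_dvd_index).pow_left 2), mem_bot] at h5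
    exact hrv (by rw [← mul_inv_eq_one, ← h5]; group)
  left
  simp only [not_forall, not_and_or, not_not] at hE
  obtain ⟨E, hn, hE, h1⟩ := hE
  obtain ⟨e, he, h2⟩ := (bot_or_exists_ne_one _).resolve_left (H1.inf_centralizer_ne_bot_of_isPGroup
    (U := E) (P := V) (fun x => ⟨1, Subtype.ext (by simpa using hE.2 x x.2)⟩)
    (H11.klein_isPGroup hV) le_normalizer_of_normal (by rintro rfl; simp at h1))
  have h3 : e ∈ V := hC v hv hv1 (mem_Ce.2 (he.2 v hv).symm)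
  have h5 := card_mul_cls ⊤ e
  have h6 := Set.ncard_le_ncard (show cls ⊤ e ⊆ (E : Set G) \ {1} from fun _ ⟨g, _, e'⟩ =>
    e' ▸ ⟨hn.conj_mem e he.1 g, by simpa using h2⟩)
  rw [Set.ncard_diff_singleton_of_mem E.one_mem, ncard_coe] at h6
  rw [inf_top_eq, hC' e h3 h2, h4, card_top] at h5
  have h7 : 3 ∣ Nat.card G := by
    rw [← orderOf_eq_prime (hp := ⟨Nat.prime_three⟩) hr (by rintro rfl; simp at hrv)]
    exact orderOf_dvd_natCard r
  have h8 := Nat.card_pos (α := G)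
  omega

theorem four_rec' {Y W : Subgroup G} {x w r : G} (hx : x ∈ Y) (hY : Y ≤ Ce x)
    (ho : Odd (orderOf x)) (hW : IsKleinFour W) (hWY : W ≤ Y)
    (hC : ∀ w ∈ W, w ≠ 1 → Y ⊓ Ce w ≤ W ⊔ zpowers x) (hw : w ∈ W) (hr : r ^ 3 = 1) (hrY : r ∈ Y)
    (hN : r ∈ normalizer (W : Set G)) (hrw : r * w ≠ w * r) :
    Nat.card Y = 12 * orderOf x ∨
      ∃ φ : Y →* A5, Function.Surjective φ ∧ ∀ y, φ y = 1 ↔ y.1 ∈ zpowers x := by
  have hc : ∀ c ∈ zpowers x, ∀ y ∈ Y, y * c = c * y := fun c hc y hy =>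
    (mem_Ce.1 (zpowers_le.2 (mem_Ce.2 (mem_Ce.1 (hY hy)).symm) hc)).symm
  have h1 : ∀ c ∈ zpowers x, c * c = 1 → c = 1 := fun c hc e => orderOf_eq_one_iff.1
    (Nat.eq_one_of_dvd_coprimes ho.coprime_two_right (orderOf_dvd_of_mem_zpowers hc)
      (orderOf_dvd_of_pow_eq_one (by rw [sq, e])))
  let Z := (zpowers x).subgroupOf Y
  haveI : Z.Normal := ⟨fun a ha b => by
    rwa [show b * a * b⁻¹ = a from Subtype.ext (by simp [hc a ha b b.2])]⟩
  let π := QuotientGroup.mk' Z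
  have h2 : ∀ (y a : Y), a.1 ∈ W → π y * π a = π a * π y → y.1 * a = a * y := fun y a ha e => by
    have h2 : (⁅y, a⁆ : Y).1 ∈ zpowers x := (QuotientGroup.eq_one_iff (N := Z) _).1 (by
      show π _ = 1
      rw [map_commutatorElement, commutatorElement_eq_one_iff_mul_comm, e])
    have h3 : y.1 * a * y.1⁻¹ = (⁅y, a⁆ : Y).1 * a := by simp [commutatorElement_def]
    generalize (⁅y, a⁆ : Y).1 = c at h2 h3
    have h4 : c * c = 1 := by
      have : c * a * (c * a) = 1 := by rw [← h3, conj_mul, H11.klein_sq hW ha]; simp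
      rwa [mul_assoc, ← mul_assoc a.1, hc c h2 a a.2, mul_assoc, H11.klein_sq hW ha, mul_one] at this
    rwa [h1 c h2 h4, one_mul, mul_inv_eq_iff_eq_mul] at h3
  have h3 : IsKleinFour ((W.subgroupOf Y).map π) := H11.isKleinFour_iff.2 ⟨by
    have := H1.card_map_mul_card_ker_inf π (W.subgroupOf Y)
    rwa [show π.ker ⊓ W.subgroupOf Y = ⊥ from eq_bot_iff.2 fun a ha => Subtype.ext (h1 _
      ((QuotientGroup.eq_one_iff (N := Z) _).1 ha.1) (H11.klein_sq hW ha.2)), card_bot, mul_one,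
      H1.card_subgroupOf_of_le hWY, (H11.isKleinFour_iff.1 hW).1] at this, by
    rintro _ ⟨a, ha, rfl⟩
    rw [← map_mul, show a * a = 1 from Subtype.ext (H11.klein_sq hW ha), map_one]⟩
  rcases four_rec (v := π ⟨w, hWY hw⟩) (r := π ⟨r, hrY⟩) h3 (by
    rintro _ ⟨a, ha, rfl⟩ e y hy
    obtain ⟨y, rfl⟩ := QuotientGroup.mk'_surjective Z y
    obtain ⟨b, hb, c, hc', e'⟩ := (H1.mem_sup_of_le_normalizer_left (N := W) (zpowers_le.2
      (centralizer_le_normalizer _ fun b hb => mem_Ce.1 (hY (hWY hb))))).1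
      (hC a ha (fun e' => e (by rw [show a = 1 from Subtype.ext e', map_one]))
        ⟨y.2, mem_Ce.2 (h2 y a ha (mem_Ce.1 hy))⟩)
    refine ⟨⟨b, hWY hb⟩, hb, QuotientGroup.eq.2 ?_⟩
    show b⁻¹ * y.1 ∈ zpowers x
    rwa [← e', inv_mul_cancel_left]) ⟨_, hw, rfl⟩
    (by rw [← map_pow, show (⟨r, hrY⟩ : Y) ^ 3 = 1 from Subtype.ext hr, map_one])
    (le_normalizer_map π ⟨⟨r, hrY⟩, fun a => hN a.1, rfl⟩) (fun e => hrw (h2 _ _ hw e)) with h | ⟨⟨e⟩⟩
  · left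
    rw [card_eq_card_quotient_mul_card_subgroup Z, h, H1.card_subgroupOf_of_le (zpowers_le.2 hx),
      Nat.card_zpowers]
  · exact Or.inr ⟨e.toMonoidHom.comp π, e.surjective.comp (QuotientGroup.mk'_surjective Z),
      fun y => e.map_eq_one_iff.trans (QuotientGroup.eq_one_iff (N := Z) _)⟩

theorem burn {p : ℕ} [Fact p.Prime] {A K : Subgroup G} (hA : H1.IsSylowIn p A K)
    (hc : ∀ a ∈ A, ∀ b ∈ A, a * b = b * a) {x g : G} (hx : x ∈ A) (hg : g ∈ K)
    (h : g * x * g⁻¹ ∈ A) : ∃ n ∈ K, n ∈ normalizer (A : Set G) ∧ n * x * n⁻¹ = g * x * g⁻¹ := by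
  have h1 : H1.IsSylowIn p A (K ⊓ Ce x) :=
    hA.of_le (le_inf hA.le fun a ha => mem_Ce.2 (hc a ha x hx)) inf_le_left
  have h2 := hA.conj_smul (le_normalizer (inv_mem hg))
  obtain ⟨c, hc', e⟩ := h1.exists_conj_eq (h2.of_le (le_inf h2.le fun a ha => mem_Ce.2 (by
    have := hc _ (H1.mem_conj_smul.1 ha) _ h
    rw [inv_inv, conj_mul, conj_mul] at this
    exact conj_injective g this)) inf_le_left)
  refine ⟨g * c, mul_mem hg hc'.1, H1.conj_smul_eq_iff_mem_normalizer.1 (by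
    rw [map_mul, mul_smul, e, map_inv, smul_inv_smul]), ?_⟩
  rw [mul_assoc g, mem_Ce.1 hc'.2]; group

theorem comm_of_zp {x y w : G} (hx : x * x = 1) (hy : y * y = 1) (hw : w ∈ zpowers (x * y))
    (h2 : w * w = 1) : x * w = w * x ∧ y * w = w * y := by
  obtain ⟨k, rfl⟩ := hw
  have h1 : x * (x * y) * x⁻¹ = (x * y)⁻¹ := by
    rw [← mul_assoc, hx, one_mul, mul_inv_rev, inv_eq_of_mul_eq_one_right hy]
  have h3 : x * (x * y) ^ k = (x * y) ^ k * x := by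
    rw [← mul_inv_eq_iff_eq_mul, ← conj_zpow, h1, inv_zpow, inv_eq_of_mul_eq_one_right h2]
  refine ⟨h3, ?_⟩
  have h4 : Commute (x * (x * y)) ((x * y) ^ k) :=
    Commute.mul_left h3 (Commute.self_zpow _ k)
  rwa [← mul_assoc, hx, one_mul] at h4

theorem card_fib {S : Set G} {F : G → Set G} {m : ℕ} (hF : ∀ y ∈ S, (F y).ncard = m) :
    Nat.card {p : G × G // p.2 ∈ S ∧ p.1 ∈ F p.2} = S.ncard * m := by
  haveI := Fintype.ofFinite S
  let e : {p : G × G // p.2 ∈ S ∧ p.1 ∈ F p.2} ≃ Σ y : S, F y :=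
    ⟨fun p => ⟨⟨p.1.2, p.2.1⟩, ⟨p.1.1, p.2.2⟩⟩, fun p => ⟨(p.2.1, p.1.1), p.1.2, p.2.2⟩,
      fun _ => rfl, fun _ => rfl⟩
  rw [Nat.card_congr e, Nat.card_sigma, Finset.sum_congr rfl fun (y : S) _ =>
    (show Nat.card (F y) = m from hF y y.2), Finset.sum_const, Finset.card_univ,
    Fintype.card_eq_nat_card, smul_eq_mul, Nat.card_coe_set_eq]

theorem aut_triv (α : A5 →* A5) (h1 : α r5 = r5) (h2 : α a5 = a5) (x : A5) : α x = x := by
  have h3 : ∀ w : A5, w * w = 1 → w * r5 * w * r5 = 1 → (w * a5) ^ 3 = 1 → w = v5 := by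
    decide +kernel
  have h4 : v5 * v5 = 1 ∧ v5 * r5 * v5 * r5 = 1 ∧ (v5 * a5) ^ 3 = 1 := by decide +kernel
  have h5 := h3 (α v5) (by rw [← map_mul, h4.1, map_one])
    (by simpa [h1] using congrArg α h4.2.1) (by simpa [h2] using congrArg α h4.2.2)
  have h6 : (⊤ : Subgroup M5) ≤ (α.eqLocus (MonoidHom.id _)).comap (MonoidHom.snd Z2 A5) := by
    rw [← M5_gen, closure_le]
    rintro _ (rfl | rfl | rfl | rfl)
    exacts [map_one α, h2, h1, h5]
  exact h6 (mem_top (1, x))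

theorem cent_of_A5 {K : Subgroup G} (e : K ≃* A5) {ρ z g : G} (hρ : ρ ∈ K) (hz : z ∈ K)
    (h1 : ρ ^ 3 = 1) (h2 : ρ ≠ 1) (h3 : z * z = 1) (h4 : z ≠ 1) (h5 : (ρ * z) ^ 3 = 1)
    (hg : g ∈ normalizer (K : Set G)) (e1 : g * ρ = ρ * g) (e2 : g * z = z * g) :
    g ∈ centralizer (K : Set G) := by
  obtain ⟨f, f1, f2⟩ := A5_norm (ρ := e ⟨ρ, hρ⟩) (α := e ⟨z, hz⟩)
    (by rw [← map_pow, e.map_eq_one_iff]; exact Subtype.ext h1)
    (fun h => h2 (congrArg Subtype.val (e.map_eq_one_iff.1 h)))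
    (by rw [← map_mul, e.map_eq_one_iff]; exact Subtype.ext h3)
    (fun h => h4 (congrArg Subtype.val (e.map_eq_one_iff.1 h)))
    (by rw [← map_mul, ← map_pow, e.map_eq_one_iff]; exact Subtype.ext h5)
  let c := K.normalizerMonoidHom ⟨g, hg⟩
  let e' := e.trans f.symm
  have h6 : ∀ (a : K) (b : A5), f b = e a → g * a = a * g → e' (c (e'.symm b)) = b :=
    fun a b e3 e4 => by
      have : e' a = b := f.symm_apply_eq.2 e3.symm
      rw [← this, e'.symm_apply_apply, show c a = a from Subtype.ext (mul_inv_eq_iff_eq_mul.2 e4)]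
  intro k hk
  have h7 : e' (c (e'.symm (e' ⟨k, hk⟩))) = e' ⟨k, hk⟩ :=
    aut_triv (e'.toMonoidHom.comp (c.toMonoidHom.comp e'.symm.toMonoidHom))
      (h6 _ _ f1 e1) (h6 _ _ f2 e2) (e' ⟨k, hk⟩)
  rw [e'.symm_apply_apply] at h7
  exact (mul_inv_eq_iff_eq_mul.1 (congrArg Subtype.val (e'.injective h7))).symm

theorem prod_equiv {A B : Subgroup G} (hc : A ≤ centralizer (B : Set G)) (hd : A ⊓ B = ⊥) :
    Nonempty (↥(A ⊔ B) ≃* A × B) := by
  let f := (inclusion (le_sup_left : A ≤ A ⊔ B)).noncommCoprod (inclusion le_sup_right)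
    fun a b => Subtype.ext (hc a.2 b b.2).symm
  refine ⟨(MulEquiv.ofBijective f ⟨(injective_iff_map_eq_one _).2 ?_, fun g => ?_⟩).symm⟩
  · rintro ⟨a, b⟩ e
    have h1 : a.1 * b.1 = 1 := congrArg Subtype.val e
    have h2 : a.1 = 1 := mem_bot.1 (hd ▸ ⟨a.2, eq_inv_of_mul_eq_one_left h1 ▸ B.inv_mem b.2⟩)
    exact Prod.ext (Subtype.ext h2) (Subtype.ext (by simpa [h2] using h1))
  · obtain ⟨a, ha, b, hb, e⟩ := (H1.mem_sup_of_le_normalizer_right
      (hc.trans (centralizer_le_normalizer _))).1 g.2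
    exact ⟨(⟨a, ha⟩, ⟨b, hb⟩), Subtype.ext e⟩

theorem count195 : Nat.card {p : A5 × A5 // p.1 * p.1 = 1 ∧ p.1 ≠ 1 ∧ p.2 * p.2 = 1 ∧
    (p.1 * p.2) ^ 15 = 1} = 195 := by
  rw [Nat.card_eq_fintype_card]; decide +kernel

end Cfsg.Agent.J2T
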