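import Cfsg.Agent.J2T.D

/-! Groups of Hall–Janko type: the centralizer of the second involution and the order. -/

set_option autoImplicit false
set_option linter.unusedSectionVars false

namespace Cfsg.Agent.J2T

open Subgroup Cfsg.Agent.H10 Cfsg.Agent.JR
open scoped commutatorElement Pointwise

variable {G : Type*} [Group G] [Finite G]

theorem sq_of_conj {a b : G} (h : IsConj a b) (ha : a * a = 1) : b * b = 1 := by
  obtain ⟨c, rfl⟩ := isConj_iff.1 h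
  rw [conj_mul, ha]; simp

theorem mem_zpowers_of_sq {a b : G} (h : a * a = 1) : b ∈ zpowers a ↔ b = 1 ∨ b = a := by
  by_cases e : a = 1
  · simp [e]
  exact mem_zpowers_two (orderOf_eq_prime (by rw [sq, h]) e)

theorem conj_of_cls {H : Subgroup G} {a b : G} (h : b ∈ cls H a) : IsConj a b :=
  let ⟨c, _, e⟩ := h; isConj_iff.2 ⟨c, e⟩

namespace JD

variable {Q P : Subgroup G} {z s σ ρ t x y u a : G} (h : JD Q P z s σ ρ t) (nc : ¬ IsConj z t)
include h nc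

theorem zH (hx : x ∈ Ce z) (e : IsConj z x) : x ∈ Q :=
  (h.invH hx (sq_of_conj e h.wq.zz)).resolve_right fun e' => nc (e.trans (conj_of_cls e').symm)

theorem tH (hx : x ∈ Ce z) (e : IsConj t x) : x ∈ cls (Ce z) t :=
  (h.invH hx (sq_of_conj e h.tt)).resolve_left fun e' => nc ((h.conjQ e' (sq_of_conj e h.tt)
    (by rintro rfl; exact h.t1 (isConj_one_left.1 e))).trans e.symm)

theorem zA (ha : a ∈ AA Q P z s ρ) (e : IsConj z a) : a ∈ Vs z s :=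
  h.AQ ha (h.zH nc (h.RH (h.AR ha)) e)

theorem NA : normalizer (AA Q P z s ρ : Set G) ≤ NV z s := fun g hg =>
  mem_normalizer_of_conj_le fun v hv => by
    by_cases e : v = 1
    · simp [e]
    exact h.zA nc ((hg v).1 (mem_sup_left hv)) ((h.conjQ (h.l.pr.V_le hv)
      (H11.klein_sq h.klein hv) e).trans (isConj_iff.2 ⟨g, rfl⟩))

omit nc in
theorem ρA : zpowers ρ ≤ normalizer (AA Q P z s ρ : Set G) := zpowers_le.2
  (H1.le_normalizer_sup (A := NV z s ⊓ Ce ρ) inf_le_left (H1.le_normalizer_inf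
    (inf_le_left.trans h.M_norm) (inf_le_right.trans le_normalizer)) ⟨h.ρM, mem_Ce.2 rfl⟩)

omit nc in
theorem card48 : Nat.card (AA Q P z s ρ ⊔ zpowers ρ : Subgroup G) = 48 := by
  rw [H1.card_sup_of_disjoint h.ρA (inf_eq_bot_of_coprime (by
    rw [h.cardA, Nat.card_zpowers, h.oρ]; norm_num)), h.cardA, Nat.card_zpowers, h.oρ]

omit nc in
theorem le48 : AA Q P z s ρ ⊔ zpowers ρ ≤ Ce t ⊓ NV z s :=
  sup_le (le_inf h.At (h.AR.trans h.RM)) (zpowers_le.2 ⟨mem_Ce.2 h.tρ.symm, h.ρM⟩)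

omit nc in
theorem CM : Ce t ⊓ NV z s = AA Q P z s ρ ⊔ zpowers ρ := by
  refine (eq_of_le_of_card_ge h.le48 ?_).symm
  have h1 := card_mul_cls (Ce t ⊓ NV z s) z
  have h2 := Set.ncard_le_ncard (show cls (Ce t ⊓ NV z s) z ⊆ {z, s, z * s} from
    fun _ ⟨g, hg, e⟩ => h.clsM ▸ ⟨g, hg.2, e⟩)
  rw [← inf_assoc, inf_comm (Ce z), h.CH, inf_eq_left.2 (h.AR.trans h.RM), h.cardA] at h1
  rw [h.ncard3] at h2
  rw [h.card48]
  omega

theorem sylA : H1.IsSylowIn 2 (AA Q P z s ρ) (Ce t) :=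
  H1.isSylowIn_of_isSylowIn_normalizer ((syl_of_card (k := 4) (m := 3) le_sup_left h.cardA h.card48
    (by norm_num)).of_le (le_inf le_normalizer h.At)
    (h.CM ▸ le_inf inf_le_right (inf_le_left.trans (h.NA nc))))

end JD

structure JE (Q P : Subgroup G) (z s σ ρ t : G) (K : Subgroup G) : Prop
    extends JD Q P z s σ ρ t where
  nc : ¬ IsConj z t
  KC : K ≤ Ce t
  KN : Ce t ≤ normalizer (K : Set G)
  KA : K ⊓ AA Q P z s ρ = Vs z s
  cK : Nat.card (Ce t) = 4 * Nat.card K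
  ρK : ρ ∈ K

theorem JD.exists_je {Q P : Subgroup G} {z s σ ρ t : G} (h : JD Q P z s σ ρ t)
    (nc : ¬ IsConj z t) : ∃ K, JE Q P z s σ ρ t K := by
  set A := AA Q P z s ρ
  obtain ⟨h1, N, hN, h2, h3⟩ := S0080.result (A.subgroupOf (Ce t)) (by
    refine Nat.Coprime.coprime_dvd_right (relIndex_dvd_card _ _) ?_
    rw [H1.card_subgroupOf_of_le h.At, h.cardA]
    exact (Nat.prime_two.coprime_iff_not_dvd.2 (h.sylA nc).not_dvd).symm.pow_right 4)
  have hρ : ρ ∈ Ce t := mem_Ce.2 h.tρ.symm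
  have h4 : (A.subgroupOf (Ce t)).focalSubgroup ≤ (Vs z s).subgroupOf (Ce t) :=
    H3.focalSubgroup_le_of_forall fun x hx g hg => by
      obtain ⟨n, a1, a2, e⟩ := burn (x := x.1) (h.sylA nc) (fun _ a _ b => h.Acomm a b) hx g.2 hg
      have a3 : A ⊔ zpowers ρ ≤ cmod (NV z s) A (Vs z s) le_rfl := sup_le (fun a ha => mem_cmod.2
        ⟨h.RM (h.AR ha), fun b hb => h.commR (h.AR ha) (h.AR hb)⟩) (zpowers_le.2 (mem_cmod.2
        ⟨h.ρM, fun b hb => by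
          obtain ⟨v, hv, u, hu, rfl⟩ := h.A_dec hb
          convert mul_mem ((h.ρM v).1 hv) (inv_mem hv) using 1
          rw [commutatorElement_def, mul_assoc ρ, mul_assoc v, Commute.inv_right (mem_Ce.1 hu.2)]
          group⟩))
      have a4 := (mem_cmod.1 (a3 (h.CM.le ⟨a1, h.NA nc a2⟩))).2 x hx
      show x.1⁻¹ * (g.1 * x * g.1⁻¹) ∈ Vs z s
      have hx' : x.1 ∈ AA Q P z s ρ := hx
      rw [← e, h.Acomm (inv_mem hx') ((a2 x).1 hx')]
      exact a4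
  have h5 : Ce t ≤ normalizer ((N.map (Ce t).subtype : Subgroup G) : Set G) :=
    H3.le_normalizer_map_subtype N
  have h6 : N.map (Ce t).subtype ⊓ A = Vs z s := by
    refine le_antisymm ?_ (le_inf ?_ le_sup_left)
    · rintro _ ⟨⟨x, hx, rfl⟩, hA⟩
      exact h4 (h1.ge (h2.le ⟨hx, hA⟩))
    have a1 : s ∈ A := mem_sup_left Pr.t_mem
    have a2 : z ∈ N.map (Ce t).subtype := by
      have e : (⁅(⟨ρ, hρ⟩ : Ce t), ⟨s, h.At a1⟩⁆ : Ce t).1 = z := by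
        simp [commutatorElement_def, h.ρs]
      exact ⟨_, (h2.ge ⟨commutator_mem_commutator (mem_top _) (mem_top _),
        by
          show (⁅(⟨ρ, hρ⟩ : Ce t), ⟨s, h.At a1⟩⁆ : Ce t).1 ∈ A
          rw [e]; exact mem_sup_left Pr.z_mem⟩).1, e⟩
    exact (closure_le _).2 (by
      simp only [Set.insert_subset_iff, Set.singleton_subset_iff]
      exact ⟨a2, h.ρz ▸ (h5 hρ z).1 a2⟩)
  have h7 : Nat.card (Ce t) = 4 * Nat.card (N.map (Ce t).subtype) := by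
    have a1 := H1.card_sup_mul_card_inf (h.At.trans h5)
    rw [h6, h.cardV, h.cardA, show N.map (Ce t).subtype ⊔ A = Ce t by
      conv_lhs => rw [← map_subgroupOf_eq_of_le (show A ≤ Ce t from h.At)]
      rw [← Subgroup.map_sup, h3, ← MonoidHom.range_eq_map, range_subtype]] at a1
    omega
  refine ⟨_, h, nc, map_subtype_le _, h5, h6, h7, ⟨ρ, hρ⟩, ?_, rfl⟩
  have a1 := N.card_mul_index
  rw [h7, card_map_of_injective (subtype_injective _), mul_comm,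
    mul_left_inj' Nat.card_pos.ne'] at a1
  have a2 := pow_index_mem N ⟨ρ, hρ⟩
  rwa [a1, show (⟨ρ, hρ⟩ : Ce t) ^ 4 = ⟨ρ, hρ⟩ from Subtype.ext (by
    show ρ ^ (3 + 1) = ρ
    rw [pow_succ, h.ρ3, one_mul])] at a2

namespace JE

variable {Q P K : Subgroup G} {z s σ ρ t x y u a : G} (h : JE Q P z s σ ρ t K)
include h

theorem VK : Vs z s ≤ K := h.KA.ge.trans inf_le_left

theorem toA (hy : y ∈ Ce t) (h2 : y * y = 1) : ∃ k ∈ Ce t, k⁻¹ * y * k ∈ AA Q P z s ρ := by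
  obtain ⟨k, hk, e⟩ := (h.sylA h.nc).exists_le_conj (zpowers_le.2 hy) (pgrp_zp (by rw [sq, h2]))
  exact ⟨k, hk, H1.mem_conj_smul.1 (e (mem_zpowers y))⟩

theorem zK (hy : y ∈ Ce t) (e : IsConj z y) : y ∈ K := by
  obtain ⟨k, hk, e'⟩ := h.toA hy (sq_of_conj e h.wq.zz)
  simpa [mul_assoc] using (h.KN hk _).1
    (h.VK (h.zA h.nc e' (e.trans (isConj_iff.2 ⟨k⁻¹, by simp⟩))))

theorem Kz (hy : y ∈ K) (h2 : y * y = 1) (h1 : y ≠ 1) : IsConj z y := by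
  obtain ⟨k, hk, e'⟩ := h.toA (h.KC hy) h2
  have h3 := h.KA.le ⟨H1.conj_mem_of_le_normalizer' h.KN hk hy, e'⟩
  exact (h.conjQ (h.l.pr.V_le h3) (H11.klein_sq h.klein h3)
    fun e => h1 (by simpa [mul_assoc] using congrArg (fun w => k * w * k⁻¹) e)).trans
    (isConj_iff.2 ⟨k, by group⟩)

theorem tK : t ∉ K := fun e => h.nc (h.Kz e h.tt h.t1)

theorem cases : Nat.card K = 12 ∨ Nonempty (K ≃* A5) := by
  have h1 := h.rotV (p := fun v => K ⊓ Ce v ≤ Vs z s) (fun v e y hy => by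
    have := (h.ρM _).1 (e (⟨H1.conj_mem_of_le_normalizer' le_normalizer h.ρK hy.1, mem_Ce.2 (by
      simpa [mul_assoc, ← mul_inv_eq_iff_eq_mul, inv_mul_eq_iff_eq_mul] using mem_Ce.1 hy.2)⟩ :
        ρ⁻¹ * y * ρ ∈ K ⊓ Ce v))
    simpa [mul_assoc] using this) Pr.z_mem h.wq.ne_one
    (fun y hy => h.KA.le ⟨hy.1, h.CH.le ⟨h.KC hy.1, hy.2⟩⟩)
  refine (four_rec' (x := 1) K.one_mem (fun _ _ => mem_Ce.2 (by simp)) (by simp) h.klein h.VK
    (fun w hw e => le_sup_of_le_left ?_) Pr.z_mem h.ρ3 h.ρK h.ρM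
    fun e => h.l.ne (by rw [← h.ρz, e, mul_inv_cancel_right])).imp (by simp)
    fun ⟨φ, h2, h3⟩ => ⟨MulEquiv.ofBijective φ ⟨(injective_iff_map_eq_one _).2 fun a e =>
      Subtype.ext (by simpa using (h3 a).1 e), h2⟩⟩
  rcases h.l.pr.mem_V.1 hw with rfl | rfl | rfl | rfl
  exacts [absurd rfl e, h1.1, h1.2.1, h1.2.2]

theorem cls_t : (cls (Ce z) t).ncard = 120 := by
  have h1 := card_mul_cls (Ce z) t
  rw [h.CH, h.cardA, h.wq.ch] at h1
  omega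

theorem az : Nat.card {p : G × G // IsConj z p.1 ∧ IsConj t p.2 ∧ z ∈ zpowers (p.1 * p.2)} =
    960 := by
  rw [show 960 = (cls (Ce z) t).ncard * 8 by rw [h.cls_t],
    ← card_fib (F := fun y => Om Q z \ Ce y)]
  · refine H11.natCard_congr_iff fun ⟨x, y⟩ => ⟨fun ⟨h1, h2, h3⟩ => ?_, fun ⟨h1, h2, h3⟩ => ?_⟩
    · have a1 := sq_of_conj h1 h.wq.zz
      have a2 := sq_of_conj h2 h.tt
      obtain ⟨a3, a4⟩ := comm_of_zp a1 a2 h3 h.wq.zz
      have a5 := h.zH h.nc (mem_Ce.2 a3) h1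
      have a6 : x ∉ Ce y := fun e => by
        rcases (mem_zpowers_of_sq (by
          rw [mul_assoc, ← mul_assoc y, ← mem_Ce.1 e, mul_assoc, a2, mul_one, a1])).1 h3 with e' | e'
        · exact h.wq.ne_one e'
        exact h.nc ((h.conjQ ((Q.mul_mem_cancel_left a5).1 (e' ▸ h.wq.mem)) a2
          (by rintro rfl; exact h.t1 (isConj_one_left.1 h2))).trans h2.symm)
      exact ⟨h.tH h.nc (mem_Ce.2 a4) h2, ⟨a5, a1, fun e => a6
        (mem_Ce.2 (h.wq.comm_of_mem_z e a4).symm)⟩, a6⟩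
    · have a1 := conj_of_cls h1
      have a2 := sq_of_conj a1 h.tt
      have a3 : y ∈ Ce z := cls_subset (le_normalizer (H := Ce z)) (h.RH h.tR) h1
      refine ⟨h.conjQ h2.1 h2.2.1 fun e => h2.2.2 (e ▸ one_mem _), a1, ?_⟩
      have a4 := (h.wq.norm_Om a3 x).1 h2
      have a5 : x * (y * x * y⁻¹) ∈ zpowers (x * y) := by
        convert pow_mem (mem_zpowers (x * y)) 2 using 1
        rw [inv_eq_of_mul_eq_one_right a2, sq]; group
      by_cases e : y * x * y⁻¹ * x = x * (y * x * y⁻¹)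
      · have a6 := (h.wq.main h2).2 _ a4.1 e a4.2.1
        rcases (H11.mem_four_iff h.wq.zz h2.2.1 (h.wq.cent x h2.1).symm).1 a6 with e' | e' | e' | e'
        · exact absurd (e' ▸ one_mem _) a4.2.2
        · exact absurd (e' ▸ mem_zpowers _) a4.2.2
        · exact absurd (mem_Ce.2 (mul_inv_eq_iff_eq_mul.1 e').symm) h3
        · rwa [e', ← mul_assoc, h.wq.cent x h2.1, mul_assoc, h2.2.1, mul_one] at a5
      · have a6 := mul_mem a5 a5
        rwa [h.wq.sq_mul h2.1 a4.1 e, h2.2.1, a4.2.1, mul_one, mul_one] at a6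
  rintro _ ⟨g, hg, rfl⟩
  have a1 := ncard_split (Om Q z) (Ce t)
  have a2 : Om Q z ∩ Ce t = (Vs z s : Set G) \ zpowers z := by
    ext x
    exact ⟨fun hx => ⟨h.QCt.le ⟨hx.1.1, hx.2⟩, hx.1.2.2⟩, fun hx =>
      ⟨⟨(h.QCt.ge hx.1).1, H11.klein_sq h.klein hx.1, hx.2⟩, (h.QCt.ge hx.1).2⟩⟩
  rw [a2, Set.ncard_diff (zpowers_le.2 Pr.z_mem), ncard_coe, ncard_coe, h.cardV, h.wq.cz,
    (h.wq.main h.sOm).1] at a1
  rw [show Om Q z \ Ce (g * t * g⁻¹) = (MulAut.conj g) '' (Om Q z \ Ce t) by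
    ext x
    obtain ⟨x, rfl⟩ := (MulAut.conj g).surjective x
    rw [(MulAut.conj g).injective.mem_set_image]
    refine and_congr (h.wq.norm_Om hg x).symm (not_congr ?_)
    simp [mem_Ce], Set.ncard_image_of_injective _ (MulAut.conj g).injective]
  omega

theorem thom : Nat.card G = Nat.card (Ce t) * 960 + 1920 *
    Nat.card {p : G × G // IsConj z p.1 ∧ IsConj t p.2 ∧ t ∈ zpowers (p.1 * p.2)} := by
  rw [S0213.result z t h.wq.ord h.ot h.nc fun _ => h.invG, h.az, h.wq.ch]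

theorem big : 76800 ≤ Nat.card G := by
  obtain ⟨x, hx, h1⟩ : ∃ x ∈ Om P s, x ∉ Vs z s := Set.exists_mem_notMem_of_ncard_lt_ncard (by
    rw [ncard_coe, h.cardV, (h.wp.main h.symm.sOm).1]; norm_num)
  have h2 : x * z ≠ z * x := fun e => h1 (Vs_comm z s ▸ h.symm.memV hx.1 e hx.2.1)
  have h3 : Ce x ⊓ Ce z ≤ CV z s := fun c hc => Pr.mem_cV.2 ⟨mem_Ce.1 hc.2, by
    have a1 : s = x * z * x⁻¹ * z⁻¹ := by rw [h.wp.conj_eq_of_ne hx.1 h.l.zP h2]; group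
    have a2 : Commute c x := mem_Ce.1 hc.1
    have a3 : Commute c z := mem_Ce.1 hc.2
    rw [a1]
    exact ((a2.mul_right a3).mul_right a2.inv_right).mul_right a3.inv_right⟩
  have h4 := card_le_of_le (show RR Q P z s ⊓ (Ce x ⊓ Ce z) ≤ P ⊓ Ce z from fun r hr =>
    ⟨h.symm.memQ hx.1 h2 (RR_symm Q P z s ▸ hr.1) (by
      rw [commutatorElement_eq_one_iff_mul_comm.2 (mem_Ce.1 hr.2.1).symm]; exact one_mem _), hr.2.2⟩)
  have h5 : (RR Q P z s).relIndex (CV z s) = 3 := by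
    have a : Nat.card (RR Q P z s) * (RR Q P z s).relIndex (CV z s) = Nat.card (CV z s) :=
      H1.card_mul_relIndex h.l.R_le
    rw [h.cardR, h.cardC] at a
    omega
  have h6 := relIndex_le_of_le_right (H := RR Q P z s) h3 (by omega)
  have h7 := H1.card_inf_mul_relIndex (RR Q P z s) (Ce x ⊓ Ce z)
  have h8 := card_mul_cls (Ce z) x
  obtain ⟨g, -, e⟩ : x ∈ cls (Ce s) z := h.wp.cls_eq h.symm.sOm ▸ hx
  have h9 := Set.ncard_le_ncard (show cls (Ce z) x ⊆ cls ⊤ z from fun _ ⟨k, _, e'⟩ =>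
    ⟨k * g, mem_top _, by rw [← e', ← e]; group⟩)
  have h10 := card_mul_cls ⊤ z
  rw [inf_top_eq, h.wq.ch, card_top] at h10
  rw [h.symm.cardQ1] at h4
  rw [h.wq.ch] at h8
  have : Nat.card (Ce x ⊓ Ce z : Subgroup G) ≤ 48 := by
    rw [← h7]; exact (Nat.mul_le_mul h4 h6).trans (by omega)
  have : 40 ≤ (cls (Ce z) x).ncard := by nlinarith
  omega

theorem eA5 : Nonempty (K ≃* A5) := by
  refine h.cases.resolve_left fun e => ?_
  have h1 : AA Q P z s ρ ⊔ zpowers ρ = Ce t := eq_of_le_of_card_ge (h.le48.trans inf_le_left)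
    (by rw [h.cK, e, h.card48])
  have h2 : ∀ y ∈ Ce t, y * y = 1 → y ∈ AA Q P z s ρ := fun y hy e => by
    obtain ⟨k, hk, e'⟩ := h.toA hy e
    simpa [mul_assoc] using (H1.sup_le_normalizer_left h.ρA (h1.ge hk) _).1 e'
  have h3 : ∀ p : G × G, IsConj z p.1 ∧ IsConj t p.2 ∧ t ∈ zpowers (p.1 * p.2) →
      p.1 ∈ ({z, s, z * s} : Set G) ∧ p.1 * p.2 = t := fun ⟨x, y⟩ ⟨a1, a2, a3⟩ => by
    have a4 := sq_of_conj a1 h.wq.zz
    have a5 := sq_of_conj a2 h.tt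
    obtain ⟨a6, a7⟩ := comm_of_zp a4 a5 a3 h.tt
    have a8 := h2 x (mem_Ce.2 a6) a4
    refine ⟨(h.l.pr.mem_V.1 (h.zA h.nc a8 a1)).resolve_left
      (by rintro rfl; exact h.wq.ne_one (isConj_one_left.1 a1)), (((mem_zpowers_of_sq
        (h.Asq (mul_mem a8 (h2 y (mem_Ce.2 a7) a5)))).1 a3).resolve_left h.t1).symm⟩
  have h4 := Nat.card_le_card_of_injective (fun p : {p : G × G // IsConj z p.1 ∧ IsConj t p.2 ∧
    t ∈ zpowers (p.1 * p.2)} => (⟨p.1.1, (h3 _ p.2).1⟩ : ({z, s, z * s} : Set G))) fun a b e => by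
      have a1 : a.1.1 = b.1.1 := congrArg Subtype.val e
      refine Subtype.ext (Prod.ext a1 (mul_left_cancel (a := a.1.1) ?_))
      rw [(h3 _ a.2).2, a1, (h3 _ b.2).2]
  have h5 := h.thom
  have h6 := h.big
  rw [Nat.card_coe_set_eq, h.ncard3] at h4
  rw [h.cK, e] at h5
  omega

theorem cardK : Nat.card K = 60 := let ⟨e⟩ := h.eA5; (Nat.card_congr e.toEquiv).trans card_A5

theorem cardCt : Nat.card (Ce t) = 240 := by rw [h.cK, h.cardK]

theorem centK (hg : x ∈ normalizer (K : Set G)) (e1 : x * ρ = ρ * x) (e2 : x * z = z * x) :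
    x ∈ centralizer (K : Set G) :=
  let ⟨e⟩ := h.eA5
  cent_of_A5 e h.ρK (h.VK Pr.z_mem) h.ρ3 (fun e => by simpa [e] using h.oρ) h.wq.zz h.wq.ne_one (by
    calc _ = ρ * z * ρ⁻¹ * (ρ * (ρ * z * ρ⁻¹) * ρ⁻¹) * ρ ^ 3 * z := by
          simp only [pow_three]; group
      _ = 1 := by
        rw [h.ρz, h.ρs, h.ρ3, mul_one, ← mul_assoc, h.l.pr.tz, mul_assoc z, h.wp.zz, mul_one,
          h.wq.zz]) hg e1 e2

theorem UCt : UU Q P z s ρ ≤ Ce t := le_sup_right.trans h.At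

theorem UK : UU Q P z s ρ ≤ centralizer (K : Set G) := fun _ hu =>
  h.centK (h.KN (h.UCt hu)) (mem_Ce.1 hu.2) (h.Rz hu.1)

theorem UK' : UU Q P z s ρ ⊓ K = ⊥ := eq_bot_iff.2 fun _ hx =>
  h.Vfix (h.KA.le ⟨hx.2, mem_sup_right hx.1⟩) (mem_Ce.1 hx.1.2)

theorem Ct_eq : K ⊔ UU Q P z s ρ = Ce t := eq_of_le_of_card_ge (sup_le h.KC h.UCt) (by
  rw [H1.card_sup_of_disjoint (h.UCt.trans h.KN) (inf_comm K _ ▸ h.UK'), h.cardCt, h.cardK, h.cardU])

theorem Ct_dec (hy : y ∈ Ce t) : ∃ b ∈ K, ∃ u ∈ UU Q P z s ρ, b * u = y :=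
  (H1.mem_sup_of_le_normalizer_left (h.UCt.trans h.KN)).1 (h.Ct_eq.ge hy)

theorem order : Nat.card G = 604800 := by
  obtain ⟨e⟩ := h.eA5
  have c : ∀ b : K, Commute b.1 t := fun b => mem_Ce.1 (h.KC b.2)
  have h1 : ∀ a b : A5, a * a = 1 ∧ a ≠ 1 ∧ b * b = 1 ∧ (a * b) ^ 15 = 1 →
      IsConj z (e.symm a).1 ∧ IsConj t ((e.symm b).1 * t) ∧
        t ∈ zpowers ((e.symm a).1 * ((e.symm b).1 * t)) := fun a b ⟨a1, a2, a3, a4⟩ => by
    have a5 : ∀ a : A5, a * a = 1 → (e.symm a).1 * (e.symm a).1 = 1 := fun a e' => by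
      rw [← coe_mul, ← map_mul, e', map_one, coe_one]
    have a6 : (e.symm b).1 * t ∉ K := fun e' => h.tK ((K.mul_mem_cancel_left (e.symm b).2).1 e')
    refine ⟨h.Kz (e.symm a).2 (a5 a a1) fun e' => a2 (e.symm.map_eq_one_iff.1 (Subtype.ext e')),
      (h.invG (orderOf_eq_prime (by rw [(c _).mul_pow, sq, sq, a5 b a3, h.tt, one_mul])
        fun e' : (e.symm b).1 * t = 1 => a6 (e' ▸ K.one_mem))).resolve_left fun e' => a6 (h.zK
          (mul_mem (h.KC (e.symm b).2) (mem_Ce.2 rfl)) e'), 15, ?_⟩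
    show _ ^ ((15 : ℕ) : ℤ) = t
    rw [zpow_natCast, ← mul_assoc, ← coe_mul, (c _).mul_pow, ← coe_pow, ← map_mul, ← map_pow, a4,
      map_one, coe_one, one_mul, show 15 = 2 * 7 + 1 from rfl, pow_succ, pow_mul, sq, h.tt]
    simp
  rw [h.thom, h.cardCt, ← Nat.card_eq_of_bijective (fun p : {p : A5 × A5 // p.1 * p.1 = 1 ∧
    p.1 ≠ 1 ∧ p.2 * p.2 = 1 ∧ (p.1 * p.2) ^ 15 = 1} => (⟨((e.symm p.1.1).1, (e.symm p.1.2).1 * t),
      h1 _ _ p.2⟩ : {p : G × G // IsConj z p.1 ∧ IsConj t p.2 ∧ t ∈ zpowers (p.1 * p.2)}))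
    ⟨fun a b e' => ?_, fun ⟨⟨x, y⟩, a1, a2, a3⟩ => ?_⟩, count195]
  · have a1 := Prod.ext_iff.1 (congrArg Subtype.val e')
    exact Subtype.ext (Prod.ext (e.symm.injective (Subtype.ext a1.1))
      (e.symm.injective (Subtype.ext (mul_right_cancel a1.2))))
  have a4 := sq_of_conj a1 h.wq.zz
  have a5 := sq_of_conj a2 h.tt
  obtain ⟨a6, a7⟩ := comm_of_zp a4 a5 a3 h.tt
  have a8 := h.zK (mem_Ce.2 a6) a1
  obtain ⟨b, hb, u, hu, rfl⟩ := h.Ct_dec (mem_Ce.2 a7)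
  obtain ⟨n, hn⟩ := (mem_powers_iff_mem_zpowers.2 a3 : t ∈ Submonoid.powers _)
  have b1 : Commute (x * b) u := h.UK hu _ (mul_mem a8 hb)
  simp only [← mul_assoc, b1.mul_pow] at hn
  have b2 : (x * b) ^ n = 1 := mem_bot.1 (h.UK'.le ⟨by
    rw [eq_mul_inv_of_mul_eq hn]
    exact (UU Q P z s ρ).mul_mem h.tU ((UU Q P z s ρ).inv_mem ((UU Q P z s ρ).pow_mem hu n)),
    pow_mem (mul_mem a8 hb) n⟩)
  rw [b2, one_mul] at hn
  have b3 : ∀ k, u ^ (2 * k) = 1 := fun k => by rw [pow_mul, sq, h.Usq hu, one_pow]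
  obtain ⟨k, rfl | rfl⟩ := Nat.even_or_odd' n
  · exact absurd (hn.symm.trans (b3 k)) h.t1
  rw [pow_succ, b3, one_mul] at hn
  subst hn
  have b4 : b * b = 1 := by
    rwa [mul_assoc, ← mul_assoc u, ← (c ⟨b, hb⟩).eq, mul_assoc, h.tt, mul_one] at a5
  have b5 : ∀ w : A5, w ^ 15 = 1 ∨ w * w = 1 := by decide +kernel
  refine ⟨⟨(e ⟨x, a8⟩, e ⟨b, hb⟩), by rw [← map_mul, e.map_eq_one_iff]; exact Subtype.ext a4,
    fun e' => h.wq.ne_one (isConj_one_left.1 (by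
      rwa [show x = 1 from congrArg Subtype.val (e.map_eq_one_iff.1 e')] at a1)),
    by rw [← map_mul, e.map_eq_one_iff]; exact Subtype.ext b4, ?_⟩, by simp⟩
  have b6 : (e ⟨x, a8⟩ * e ⟨b, hb⟩) ^ (2 * k + 1) = 1 := by
    rw [← map_mul, ← map_pow, e.map_eq_one_iff]; exact Subtype.ext b2
  refine (b5 _).elim id fun e' => ?_
  rw [pow_succ, pow_mul, sq, e', one_pow, one_mul] at b6
  rw [b6, one_pow]

end JE

end Cfsg.Agent.J2T
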