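import Cfsg.Agent.J2T.F
import Cfsg.Agent.H12.SmallRecog

/-! Groups of Hall–Janko type: the normalizer of `O₂(C(t))`. -/

set_option autoImplicit false
set_option linter.unusedSectionVars false

namespace Cfsg.Agent.J2T

open Subgroup Cfsg.Agent.H10 Cfsg.Agent.JR
open scoped commutatorElement Pointwise

variable {G : Type*} [Group G] [Finite G]

theorem JW.exists_om {Q : Subgroup G} {z : G} (h : JW Q z) : ∃ s, s ∈ Om Q z := by
  obtain ⟨a, ha, h1⟩ : ∃ a ∈ (Q : Set G), a ∉ (zpowers z : Set G) :=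
    Set.exists_mem_notMem_of_ncard_lt_ncard (by rw [ncard_coe, ncard_coe, h.cz, h.cq]; norm_num)
  by_cases e : a * a = 1
  · exact ⟨a, ha, e, h1⟩
  have h2 := h.sq_eq ha e
  obtain ⟨c, hc, h3⟩ : ∃ c ∈ ((Q ⊓ Ce a : Subgroup G) : Set G), c ∉ (zpowers a : Set G) :=
    Set.exists_mem_notMem_of_ncard_lt_ncard (by
      rw [ncard_coe, ncard_coe, h.card_Q1 ha h1, Nat.card_zpowers]
      exact (Nat.le_of_dvd (by norm_num) (orderOf_dvd_of_pow_eq_one (n := 2 * 2) (by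
        rw [pow_mul, sq a, h2, sq, h.zz]))).trans_lt (by norm_num))
  have h4 : zpowers z ≤ zpowers a := zpowers_le.2 (h2 ▸ mul_mem (mem_zpowers a) (mem_zpowers a))
  by_cases e' : c * c = 1
  · exact ⟨c, hc.1, e', fun e => h3 (h4 e)⟩
  refine ⟨a * c, mul_mem ha hc.1, ?_, fun e => h3 (((zpowers a).mul_mem_cancel_left
    (mem_zpowers a)).1 (h4 e))⟩
  rw [mul_assoc, ← mul_assoc c, mem_Ce.1 hc.2, mul_assoc, ← mul_assoc, h2, h.sq_eq hc.1 e', h.zz]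

namespace JE

variable {Q P K : Subgroup G} {z s σ ρ t x y u a : G} (h : JE Q P z s σ ρ t K)
include h

theorem simpleK {X : Subgroup G} (hn : K ≤ normalizer (X : Set G)) (h1 : x ∈ K) (h2 : x ∈ X)
    (h3 : x ≠ 1) : K ≤ X := by
  obtain ⟨e⟩ := h.eA5
  haveI := e.isSimpleGroup
  refine subgroupOf_eq_top.1 (((normal_subgroupOf_of_le_normalizer hn).eq_bot_or_eq_top).resolve_left
    fun e' => h3 (congrArg Subtype.val (mem_bot.1 (e'.le (show (⟨x, h1⟩ : K) ∈ _ from h2)))))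

theorem σU : σ ∈ normalizer (UU Q P z s ρ : Set G) :=
  H1.le_normalizer_inf (A := NV z s ⊓ Ce ρ) (inf_le_left.trans h.M_norm)
    (inf_le_right.trans le_normalizer) ⟨centralizer_le_normalizer _ h.σC, mem_Ce.2 h.σρ⟩

theorem σt : σ * t ≠ t * σ := fun e => h.t1 (h.Vfix (h.fpf h.σC h.oσ h.tR e.symm) h.tρ)

theorem σ3 : σ ^ 3 = 1 := h.oσ ▸ pow_orderOf_eq_one σ

theorem CU : centralizer (UU Q P z s ρ : Set G) = Ce t :=
  le_antisymm (fun _ hx => mem_Ce.2 (hx t h.tU).symm) (h.Ct_eq ▸ sup_le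
    (le_centralizer_iff.1 h.UK) fun _ a _ b => H11.klein_comm h.kleinU b a)

theorem OU : OpOf 2 (Ce t) = UU Q P z s ρ := by
  have h1 : UU Q P z s ρ ≤ OpOf 2 (Ce t) :=
    le_OpOf h.UCt (h.CU.ge.trans (centralizer_le_normalizer _)) (H11.klein_isPGroup h.kleinU)
  refine le_antisymm (fun x hx => ?_) h1
  obtain ⟨b, hb, u, hu, rfl⟩ := h.Ct_dec (OpOf_le hx)
  by_cases e : b = 1
  · simpa [e] using hu
  obtain ⟨k, hk⟩ := OpOf_isPGroup (p := 2) (H := Ce t) ⟨ρ, h.simpleK (le_normalizer_OpOf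
    (h.KC.trans le_normalizer)) hb (((OpOf 2 (Ce t)).mul_mem_cancel_right (h1 hu)).1 hx) e h.ρK⟩
  have h2 := orderOf_dvd_of_pow_eq_one (congrArg Subtype.val hk : ρ ^ 2 ^ k = 1)
  rw [h.oρ] at h2
  exact absurd (Nat.prime_three.dvd_of_dvd_pow h2) (by norm_num)

theorem NUK : normalizer (UU Q P z s ρ : Set G) ≤ normalizer (K : Set G) := fun g hg => by
  have h1 : ∀ k ∈ Ce t, g * k * g⁻¹ ∈ Ce t := fun k hk =>
    h.CU ▸ (normalizer_le_normalizer_centralizer _ hg k).1 (h.CU ▸ hk)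
  refine mem_normalizer_of_conj_le fun k hk => h.simpleK (X := K.comap (MulAut.conj g).toMonoidHom)
    (fun k hk => mem_normalizer_of_conj_le fun x hx => ?_) (h.VK Pr.z_mem)
    (h.zK (h1 z (h.KC (h.VK Pr.z_mem))) (isConj_iff.2 ⟨g, rfl⟩)) h.wq.ne_one hk
  have h2 := (h.KN (h1 k (h.KC hk)) _).1 (show g * x * g⁻¹ ∈ K from hx)
  rw [show g * k * g⁻¹ * (g * x * g⁻¹) * (g * k * g⁻¹)⁻¹ = g * (k * x * k⁻¹) * g⁻¹ by group] at h2
  exact h2

theorem σK : σ ∈ centralizer (K : Set G) := h.centK (h.NUK h.σU) h.σρ (Pr.mem_cV.1 h.σC).1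

theorem ZK (h1 : x ∈ K) (h2 : x ∈ centralizer (K : Set G)) : x = 1 := by_contra fun e =>
  h.l.ne (by
    rw [← h.ρz, h.simpleK (le_normalizer.trans (normalizer_le_normalizer_centralizer _)) h1 h2 e
      (h.VK Pr.z_mem) ρ h.ρK, mul_inv_cancel_right])

theorem cardB : Nat.card (UU Q P z s ρ ⊔ zpowers σ : Subgroup G) = 12 := by
  rw [H1.card_sup_of_disjoint (zpowers_le.2 h.σU) (inf_eq_bot_of_coprime (by
    rw [h.cardU, Nat.card_zpowers, h.oσ]; norm_num)), h.cardU, Nat.card_zpowers, h.oσ]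

theorem BK : UU Q P z s ρ ⊔ zpowers σ ≤ centralizer (K : Set G) :=
  sup_le h.UK (zpowers_le.2 h.σK)

theorem BK' : (UU Q P z s ρ ⊔ zpowers σ) ⊓ K = ⊥ := eq_bot_iff.2 fun _ hx => h.ZK hx.2 (h.BK hx.1)

theorem NU : UU Q P z s ρ ⊔ zpowers σ ⊔ K = normalizer (UU Q P z s ρ : Set G) := by
  refine eq_of_le_of_card_ge (sup_le (sup_le le_normalizer (zpowers_le.2 h.σU))
    (h.KC.trans (h.CU.ge.trans (centralizer_le_normalizer _)))) ?_
  have h1 := card_mul_cls (normalizer (UU Q P z s ρ : Set G)) t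
  have h2 := Set.ncard_le_ncard (show cls (normalizer (UU Q P z s ρ : Set G)) t ⊆
    (UU Q P z s ρ : Set G) \ {1} from fun _ ⟨g, hg, e⟩ => e ▸ ⟨(hg t).1 h.tU, by simpa using h.t1⟩)
  have h3 := card_le_of_le (inf_le_left : Ce t ⊓ normalizer (UU Q P z s ρ : Set G) ≤ _)
  rw [Set.ncard_diff_singleton_of_mem (one_mem _), ncard_coe, h.cardU] at h2
  rw [sup_comm, H1.card_sup_of_disjoint (h.BK.trans (centralizer_le_normalizer _))
    (inf_comm K _ ▸ h.BK'), h.cardB, h.cardK, ← h1]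
  exact (Nat.mul_le_mul h3 h2).trans (by rw [h.cardCt])

theorem eA4 : Nonempty (↥(UU Q P z s ρ ⊔ zpowers σ) ≃* alternatingGroup (Fin 4)) := by
  refine H12.nonempty_equiv_alt4_of_not_normal h.cardB fun X hX e => h.σt ?_
  have h1 := X.card_mul_index
  rw [e, h.cardB] at h1
  let a : ↥(UU Q P z s ρ ⊔ zpowers σ) := ⟨σ, mem_sup_right (mem_zpowers σ)⟩
  let b : ↥(UU Q P z s ρ ⊔ zpowers σ) := ⟨t, mem_sup_left h.tU⟩
  have h2 := pow_index_mem X a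
  rw [show X.index = 3 + 1 by omega, pow_succ, show a ^ 3 = 1 from Subtype.ext h.σ3, one_mul] at h2
  have h3 : (a * (b * a⁻¹ * b⁻¹)) ^ 3 = 1 := orderOf_dvd_iff_pow_eq_one.1
    (e ▸ X.orderOf_dvd_natCard (mul_mem h2 (hX.conj_mem _ (inv_mem h2) b)))
  have h4 : (σ * (t * σ⁻¹ * t⁻¹)) ^ 3 = 1 := congrArg Subtype.val h3
  have h5 := h.Usq ((UU Q P z s ρ).mul_mem ((h.σU t).1 h.tU) ((UU Q P z s ρ).inv_mem h.tU))
  rw [← mul_assoc, ← mul_assoc, pow_succ, sq, h5, one_mul] at h4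
  rwa [mul_inv_eq_one, mul_inv_eq_iff_eq_mul] at h4

theorem s5382 : Nonempty (Ce t ≃* (Multiplicative (ZMod 2) × Multiplicative (ZMod 2)) × A5) ∧
    Nonempty (normalizer (OpOf 2 (Ce t) : Set G) ≃* alternatingGroup (Fin 4) × A5) := by
  obtain ⟨e1⟩ := h.eA5
  obtain ⟨e2⟩ := h.eA4
  obtain ⟨e3⟩ := prod_equiv h.UK h.UK'
  obtain ⟨e4⟩ := prod_equiv h.BK h.BK'
  haveI := h.kleinU
  obtain ⟨e5⟩ := IsKleinFour.nonempty_mulEquiv (G₁ := UU Q P z s ρ)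
    (G₂ := Multiplicative (ZMod 2 × ZMod 2))
  rw [h.OU, ← h.NU, ← h.Ct_eq, sup_comm K]
  exact ⟨⟨e3.trans ((e5.trans (MulEquiv.prodMultiplicative _ _)).prodCongr e1)⟩,
    ⟨e4.trans (e2.prodCongr e1)⟩⟩

end JE

end Cfsg.Agent.J2T
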