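import Cfsg.Agent.J2T.G

/-! Groups of Hall–Janko type: centralizers of elements of order three and five. -/

set_option autoImplicit false
set_option linter.unusedSectionVars false
set_option maxRecDepth 100000

namespace Cfsg.Agent.J2T

open Subgroup Cfsg.Agent.H10 Cfsg.Agent.JR
open scoped commutatorElement Pointwise

variable {G : Type*} [Group G] [Finite G]

theorem syl_mod {p : ℕ} [Fact p.Prime] {P N : Subgroup G} (h : H1.IsSylowIn p P N) :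
    (normalizer (P : Set G)).relIndex N % p = 1 % p := by
  obtain ⟨Q, rfl⟩ := h.exists_sylow
  have h1 := card_sylow_modEq_one p N
  rw [Q.card_eq_index_normalizer] at h1
  rw [relIndex, subgroupOf_normalizer_eq (map_subtype_le _), subgroupOf,
    comap_map_eq_self_of_injective N.subtype_injective]
  exact h1

theorem mem_zp3 {x y : G} (hx : orderOf x = 3) (hy : y ∈ zpowers x) : y = 1 ∨ y = x ∨ y = x⁻¹ := by
  classical
  obtain ⟨k, hk, rfl⟩ := Finset.mem_image.1 ((mem_zpowers_iff_mem_range_orderOf (y := y)).1 hy)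
  rw [hx, Finset.mem_range] at hk
  interval_cases k
  · simp
  · simp
  · exact .inr (.inr (eq_inv_of_mul_eq_one_left ((pow_succ x 2).symm.trans
      (show x ^ 3 = 1 from hx ▸ pow_orderOf_eq_one x))))

theorem card_Ce_conj {a b : G} (h : IsConj a b) : Nat.card (Ce b) = Nat.card (Ce a) := by
  obtain ⟨g, rfl⟩ := isConj_iff.1 h
  rw [Ce, ← conj_centralizer_singleton, card_conj]

theorem orderOf_conj' (g x : G) : orderOf (g * x * g⁻¹) = orderOf x :=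
  orderOf_injective (MulAut.conj g).toMonoidHom (conj_injective g) x

theorem Ce_conj {g x y : G} (h : y ∈ Ce (g * x * g⁻¹)) : g⁻¹ * y * g ∈ Ce x :=
  mem_conj_iff.1 (conj_centralizer_singleton g x ▸ h)

theorem A5_cent : ∀ a : A5, a ^ 15 = 1 → a ≠ 1 → ∀ b : A5, b * a = a * b →
    ∃ k : Fin 5, b = a ^ k.1 := by decide +kernel

theorem A5_real : ∀ a : A5, a * a ≠ 1 → ∃ b : A5, b * b = 1 ∧ b * a * b⁻¹ = a⁻¹ := by
  decide +kernel

theorem cent_hom {Y N : Subgroup G} (φ : Y →* A5) (hk : ∀ y, φ y = 1 ↔ y.1 ∈ N) {x : G}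
    (hx : x ∈ Y) (h1 : x ^ 15 = 1) (h2 : x ∉ N) : Y ⊓ Ce x ≤ (N ⊓ Ce x) ⊔ zpowers x := fun y hy => by
  obtain ⟨k, e⟩ := A5_cent (φ ⟨x, hx⟩) (by rw [← map_pow, show (⟨x, hx⟩ : Y) ^ 15 = 1 from
    Subtype.ext h1, map_one]) (fun e => h2 ((hk _).1 e)) (φ ⟨y, hy.1⟩) (by
      rw [← map_mul, ← map_mul]; exact congrArg φ (Subtype.ext (mem_Ce.1 hy.2)))
  have h3 := (hk (⟨y, hy.1⟩ * (⟨x, hx⟩ ^ k.1)⁻¹)).1 (by rw [map_mul, map_inv, map_pow, e]; simp)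
  rw [← inv_mul_cancel_right y (x ^ k.1)]
  exact mul_mem_sup ⟨h3, (Ce x).mul_mem hy.2 ((Ce x).inv_mem (pow_mem (mem_Ce.2 rfl) _))⟩
    (pow_mem (mem_zpowers x) _)

theorem syl_zp {p : ℕ} [hp : Fact p.Prime] {H : Subgroup G} {x : G} (hx : x ∈ H)
    (ho : orderOf x = p) (h : ¬ p * p ∣ Nat.card H) : H1.IsSylowIn p (zpowers x) H :=
  ⟨zpowers_le.2 hx, pgrp_zp (ho ▸ pow_orderOf_eq_one x), fun e => h (by
    rw [← H1.card_mul_relIndex (zpowers_le.2 hx), Nat.card_zpowers, ho]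
    exact Nat.mul_dvd_mul_left _ e)⟩

theorem real3 {H : Subgroup G} {x : G} (hx : x ∈ H) (ho : orderOf x = 3)
    (h9 : ¬ 3 * 3 ∣ Nat.card H) (h : (Ce x).relIndex H % 3 ≠ 1) : IsConj x x⁻¹ := by
  haveI : Fact (Nat.Prime 3) := ⟨Nat.prime_three⟩
  by_contra e
  refine h ?_
  rw [show Ce x = normalizer (zpowers x : Set G) from le_antisymm ((centralizer_zpowers x).ge.trans
    (centralizer_le_normalizer _)) fun g hg => ?_, syl_mod (syl_zp hx ho h9)]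
  rcases mem_zp3 ho ((hg x).1 (mem_zpowers x)) with e' | e' | e'
  · simp [show x = 1 by simpa using e'] at ho
  · exact mem_Ce.2 (mul_inv_eq_iff_eq_mul.1 e')
  · exact absurd (isConj_iff.2 ⟨g, e'⟩) e

theorem conj3 {H : Subgroup G} {x y : G} (hx : x ∈ H) (ho : orderOf x = 3)
    (h9 : ¬ 3 * 3 ∣ Nat.card H) (hr : IsConj x x⁻¹) (hy : y ∈ H) (hy3 : orderOf y = 3) :
    IsConj y x := by
  haveI : Fact (Nat.Prime 3) := ⟨Nat.prime_three⟩
  obtain ⟨k, -, e⟩ := (syl_zp hx ho h9).exists_le_conj (zpowers_le.2 hy)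
    (pgrp_zp (hy3 ▸ pow_orderOf_eq_one y))
  have h1 : IsConj y (k⁻¹ * y * k) := isConj_iff.2 ⟨k⁻¹, by simp⟩
  rcases mem_zp3 ho (H1.mem_conj_smul.1 (e (mem_zpowers y))) with e' | e' | e'
  · simp [isConj_one_left.1 (e' ▸ h1)] at hy3
  · exact e' ▸ h1
  · exact (e' ▸ h1).trans hr.symm

theorem ne_inv_conj {p x : G} (hp : Odd (orderOf p)) (e : p * x * p⁻¹ = x⁻¹) : x * x = 1 := by
  have h1 := H11.odd_pow_swap e (by rw [← conj_inv, e, inv_inv]) hp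
  rw [pow_orderOf_eq_one] at h1
  exact mul_eq_one_iff_eq_inv.2 (by simpa using h1)

namespace JE

variable {Q P K : Subgroup G} {z s σ ρ t x y u a : G} (h : JE Q P z s σ ρ t K)
include h

theorem conjU (hu : u ∈ UU Q P z s ρ) (h1 : u ≠ 1) : IsConj t u :=
  (h.invG (H11.klein_orderOf h.kleinU hu h1)).resolve_left fun e =>
    h1 (h.UQ hu (h.zH h.nc (h.RH hu.1) e))

theorem CeU (hu : u ∈ UU Q P z s ρ) (h1 : u ≠ 1) : Ce t = Ce u :=
  eq_of_le_of_card_ge (fun _ hx => mem_Ce.2 (h.CU.ge hx u hu).symm) (card_Ce_conj (h.conjU hu h1)).le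

theorem cenK (hx : x ∈ K) (h1 : x ^ 15 = 1) (h2 : x ≠ 1) : K ⊓ Ce x ≤ zpowers x := by
  obtain ⟨e⟩ := h.eA5
  simpa using cent_hom (N := ⊥) e.toMonoidHom
    (fun y => e.map_eq_one_iff.trans Subtype.ext_iff) hx h1 h2

theorem realK (hx : x ∈ K) (h2 : x * x ≠ 1) : ∃ i ∈ K, i * i = 1 ∧ i * x * i⁻¹ = x⁻¹ := by
  obtain ⟨e⟩ := h.eA5
  obtain ⟨b, h3, h4⟩ := A5_real (e ⟨x, hx⟩) fun e' => h2 (congrArg Subtype.val
    (e.map_eq_one_iff.1 ((map_mul e _ _).trans e')))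
  obtain ⟨b, rfl⟩ := e.surjective b
  rw [← map_mul, e.map_eq_one_iff] at h3
  rw [← map_inv, ← map_inv, ← map_mul, ← map_mul, e.apply_eq_iff_eq] at h4
  exact ⟨b, b.2, congrArg Subtype.val h3, congrArg Subtype.val h4⟩

theorem UCe (hx : x ∈ K) : UU Q P z s ρ ≤ Ce x := fun _ hu => mem_Ce.2 (h.UK hu x hx).symm

theorem σCe (hx : x ∈ K) : σ ∈ Ce x := mem_Ce.2 (h.σK x hx).symm

theorem Cx (hx : x ∈ K) (h1 : x ^ 15 = 1) (h2 : x ≠ 1) : Nat.card (Ce x) = 12 * orderOf x ∨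
    ∃ φ : Ce x →* A5, Function.Surjective φ ∧ ∀ y, φ y = 1 ↔ y.1 ∈ zpowers x :=
  four_rec' (mem_Ce.2 rfl) le_rfl (Odd.of_dvd_nat (by decide) (orderOf_dvd_of_pow_eq_one h1))
    h.kleinU (h.UCe hx) (fun w hw e y hy => by
      obtain ⟨b, hb, u, hu, rfl⟩ := h.Ct_dec ((h.CeU hw e).ge hy.2)
      rw [sup_comm]
      exact mul_mem_sup (h.cenK hx h1 h2 ⟨hb, ((Ce x).mul_mem_cancel_right (h.UCe hx hu)).1 hy.1⟩)
        hu) h.tU h.σ3 (h.σCe hx) h.σU h.σt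

theorem cardCx (hx : x ∈ K) (h1 : x ^ 15 = 1) (h2 : x ≠ 1) :
    Nat.card (Ce x) = 12 * orderOf x ∨ Nat.card (Ce x) = 60 * orderOf x :=
  (h.Cx hx h1 h2).imp_right fun ⟨φ, a1, a2⟩ => by
    rw [← φ.ker.card_mul_index, index_ker, MonoidHom.range_eq_top.2 a1, card_top, card_A5,
      show φ.ker = (zpowers x).subgroupOf _ from Subgroup.ext a2,
      H1.card_subgroupOf_of_le (zpowers_le.2 (mem_Ce.2 rfl)), Nat.card_zpowers, mul_comm]

theorem invCx (hx : x ∈ K) (h1 : x ^ 15 = 1) (h2 : x ≠ 1) (hy : y ∈ Ce x) (h3 : y * y = 1)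
    (h4 : y ≠ 1) : IsConj t y := by
  have h5 : H1.IsSylowIn 2 (UU Q P z s ρ) (Ce x) := by
    have a := Nat.odd_iff.1 (Odd.of_dvd_nat (by decide) (orderOf_dvd_of_pow_eq_one h1))
    rcases h.cardCx hx h1 h2 with e | e
    · exact syl_of_card (k := 2) (m := 3 * orderOf x) (h.UCe hx) h.cardU (by omega) (by omega)
    · exact syl_of_card (k := 2) (m := 15 * orderOf x) (h.UCe hx) h.cardU (by omega) (by omega)
  obtain ⟨k, -, e⟩ := h5.exists_le_conj (zpowers_le.2 hy) (pgrp_zp (by rw [sq, h3]))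
  exact (h.conjU (H1.mem_conj_smul.1 (e (mem_zpowers y))) fun e =>
    h4 (by simpa [mul_assoc] using congrArg (fun w => k * w * k⁻¹) e)).trans
    (isConj_iff.2 ⟨k, by group⟩)

theorem cardQσ : Nat.card (Q ⊓ Ce σ : Subgroup G) = 8 := by
  have h0 := Pr.mem_cV.1 h.σC
  have h1 := dvd_diff Nat.prime_three h.oσ (X := Q) fun x hx => h.wq.conj_mem h0.1 hx
  have h2 := ncard_split Q (Ce σ)
  rw [← coe_inf, ncard_coe, ncard_coe, h.wq.cq] at h2
  have h3 : Nat.card (Q ⊓ Ce σ : Subgroup G) ∣ 32 := h.wq.cq ▸ card_dvd_of_le inf_le_left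
  have h4 := card_le_of_le (show Vs z s ≤ Q ⊓ Ce σ from fun v hv =>
    ⟨h.l.pr.V_le hv, mem_Ce.2 (h.σC v hv)⟩)
  have h5 := H1.card_inf_mul_relIndex (Ce s) (Q ⊓ Ce σ)
  have h6 := H1.card_inf_mul_relIndex (Ce s) Q
  rw [inf_comm, h.cardQ1, h.wq.cq] at h6
  have h7 := relIndex_le_of_le_right (H := Ce s) (inf_le_left : Q ⊓ Ce σ ≤ Q) (by omega)
  have h8 := card_le_of_le (show Ce s ⊓ (Q ⊓ Ce σ) ≤ Vs z s from fun x hx =>
    h.fpfQ h.σC h.oσ ⟨⟨hx.2.1, hx.1⟩, hx.2.2⟩)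
  have h9 := h5.symm.trans_le (Nat.mul_le_mul h8 h7)
  rw [h.cardV] at h4 h9
  have : Nat.card (Q ⊓ Ce σ : Subgroup G) ≤ 8 := by omega
  generalize Nat.card (Q ⊓ Ce σ : Subgroup G) = m at *
  interval_cases m <;> omega

end JE

namespace JF

variable {Q P K : Subgroup G} {z s σ ρ t x y u a : G} {π : Ce z →* A5}
  (h : JF Q P z s σ ρ t K π)
include h

theorem cardHx (hx : x ∈ Ce z) (h1 : x ^ 15 = 1) (h2 : x ≠ 1) :
    Nat.card (Ce z ⊓ Ce x : Subgroup G) = Nat.card (Q ⊓ Ce x : Subgroup G) * orderOf x := by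
  have h3 : ∀ Y ≤ Q, (Nat.card Y).Coprime (Nat.card (zpowers x)) := fun Y hY =>
    Nat.Coprime.coprime_dvd_left (h.wq.cq ▸ card_dvd_of_le hY : _ ∣ 32) (by
      rw [Nat.card_zpowers]
      exact Nat.Coprime.coprime_dvd_right (orderOf_dvd_of_pow_eq_one h1) (by norm_num))
  rw [le_antisymm (cent_hom π h.ker hx h1 fun e => h2 (mem_bot.1
    ((inf_eq_bot_of_coprime (h3 Q le_rfl)).le ⟨e, mem_zpowers x⟩))) (sup_le (inf_le_inf_right _
      fun q hq => mem_Ce.2 (h.wq.cent q hq)) (zpowers_le.2 ⟨hx, mem_Ce.2 rfl⟩)),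
    H1.card_sup_of_disjoint (N := Q ⊓ Ce x)
      (zpowers_le.2 (centralizer_le_normalizer _ fun q hq => mem_Ce.1 hq.2))
      (inf_eq_bot_of_coprime (h3 _ inf_le_left)), Nat.card_zpowers]

theorem σH : σ ∈ Ce z := mem_Ce.2 (Pr.mem_cV.1 h.σC).1

theorem cardHσ : Nat.card (Ce z ⊓ Ce σ : Subgroup G) = 24 := by
  rw [h.cardHx h.σH (by rw [show 15 = 3 * 5 from rfl, pow_mul, h.σ3, one_pow])
    (fun e => by simpa [e] using h.oσ), h.cardQσ, h.oσ]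

theorem realσ : IsConj σ σ⁻¹ := real3 h.σH h.oσ (by rw [h.wq.ch]; norm_num) (by
  have := H1.card_inf_mul_relIndex (Ce σ) (Ce z)
  rw [inf_comm, h.cardHσ, h.wq.ch] at this
  omega)

end JF

end Cfsg.Agent.J2T
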