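import Cfsg.Agent.J2T.H

/-! Groups of Hall–Janko type: Sylow 3-structure. -/

set_option autoImplicit false
set_option linter.unusedSectionVars false

namespace Cfsg.Agent.J2T

open Subgroup Cfsg.Agent.H10 Cfsg.Agent.JR
open scoped commutatorElement Pointwise

variable {G : Type*} [Group G] [Finite G]

abbrev EE (σ ρ : G) : Subgroup G := zpowers ρ ⊔ zpowers σ

theorem cls3 {S : Subgroup G} {x : G} (hS : Nat.card S = 27) (h : ¬ S ≤ Ce x) :
    Nat.card (Ce x ⊓ S : Subgroup G) ≤ 9 ∧ 3 ≤ (cls S x).ncard := by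
  have h1 := card_mul_cls S x
  have h2 := H1.card_lt_of_lt (inf_lt_right.2 h)
  rw [hS] at h1 h2
  generalize Nat.card (Ce x ⊓ S : Subgroup G) = m at *
  interval_cases m <;> omega

theorem cls_zp3 {N : Subgroup G} {x : G} (ho : orderOf x = 3)
    (h : N ≤ normalizer (zpowers x : Set G)) : cls N x ⊆ {x, x⁻¹} := fun _ ⟨g, hg, e⟩ =>
  (mem_zp3 ho (e ▸ (h hg x).1 (mem_zpowers x))).resolve_left fun e' => by
    simp [show x = 1 by simpa using e.trans e'] at ho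

theorem conj_inv_mem {i x : G} (e : i * x * i⁻¹ = x⁻¹) : i ∈ normalizer (zpowers x : Set G) :=
  mem_normalizer_of_conj_le (by
    rintro _ ⟨k, rfl⟩
    rw [← conj_zpow, e]
    exact zpow_mem (inv_mem (mem_zpowers x)) k)

theorem sq_ne_of_three {x : G} (ho : orderOf x = 3) : x * x ≠ 1 := fun e => by
  have := orderOf_dvd_of_pow_eq_one ((sq x).trans e)
  rw [ho] at this
  omega

namespace JE

variable {Q P K S : Subgroup G} {z s σ ρ t x y u a j : G} (h : JE Q P z s σ ρ t K)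
include h

theorem ρ1 : ρ ≠ 1 := fun e => by simpa [e] using h.oρ

theorem ρ15 : ρ ^ 15 = 1 := by rw [show 15 = 3 * 5 from rfl, pow_mul, h.ρ3, one_pow]

theorem realρ : IsConj ρ ρ⁻¹ :=
  let ⟨i, _, _, e⟩ := h.realK h.ρK (sq_ne_of_three h.oρ); isConj_iff.2 ⟨i, e⟩

theorem ncρσ : ¬ IsConj ρ σ := fun e => by
  obtain ⟨g, e⟩ := isConj_iff.1 e
  have h1 : IsConj z (g⁻¹ * z * g) := isConj_iff.2 ⟨g⁻¹, by simp⟩
  exact h.nc (h1.trans (h.invCx h.ρK h.ρ15 h.ρ1 (Ce_conj (e ▸ mem_Ce.2 (Pr.mem_cV.1 h.σC).1.symm))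
    (sq_of_conj h1 h.wq.zz) fun e => h.wq.ne_one (isConj_one_left.1 (e ▸ h1))).symm)

theorem nzp (e : IsConj ρ y) : y ∉ zpowers σ := fun hy => by
  rcases mem_zp3 h.oσ hy with rfl | rfl | rfl
  · exact h.ρ1 (isConj_one_left.1 e)
  · exact h.ncρσ e
  · obtain ⟨g, e⟩ := isConj_iff.1 e
    exact h.ncρσ (h.realρ.trans (isConj_iff.2 ⟨g, by rw [conj_inv.symm, e, inv_inv]⟩))

theorem cardE : Nat.card (EE σ ρ) = 9 := by
  rw [EE, sup_comm, H1.card_sup_of_disjoint (zpowers_le.2 (centralizer_le_normalizer _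
    (centralizer_zpowers σ ▸ mem_Ce.2 h.σρ.symm))) (eq_bot_iff.2 fun x hx => ?_), Nat.card_zpowers,
    Nat.card_zpowers, h.oρ, h.oσ]
  rcases mem_zp3 h.oρ hx.2 with rfl | rfl | rfl
  exacts [rfl, absurd hx.1 (h.nzp (IsConj.refl _)), absurd hx.1 (h.nzp h.realρ)]

theorem conjρ (hj : IsConj t j) (hy : y ∈ Ce j) (ho : orderOf y = 3) : IsConj y ρ := by
  obtain ⟨g, rfl⟩ := isConj_iff.1 hj
  exact (isConj_iff.2 ⟨g⁻¹, by simp⟩ : IsConj y (g⁻¹ * y * g)).trans (conj3 (h.KC h.ρK) h.oρ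
    (by rw [h.cardCt]; norm_num) h.realρ (Ce_conj hy) (by simpa using (orderOf_conj' g⁻¹ y).trans ho))

theorem cardCρ : Nat.card (Ce ρ) = 36 ∨ Nat.card (Ce ρ) = 180 := by
  simpa [h.oρ] using h.cardCx h.ρK h.ρ15 h.ρ1

theorem CE : Ce ρ ⊓ Ce σ = EE σ ρ := by
  have h1 : EE σ ρ ≤ Ce ρ ⊓ Ce σ := sup_le (zpowers_le.2 ⟨mem_Ce.2 rfl, mem_Ce.2 h.σρ.symm⟩)
    (zpowers_le.2 ⟨mem_Ce.2 h.σρ, mem_Ce.2 rfl⟩)
  rcases h.Cx h.ρK h.ρ15 h.ρ1 with e | ⟨φ, -, e⟩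
  · refine (eq_of_le_of_card_ge h1 ?_).symm
    have a1 := card_dvd_of_le h1
    have a2 := card_dvd_of_le (inf_le_left : Ce ρ ⊓ Ce σ ≤ _)
    have a3 : ¬ 2 ∣ Nat.card (Ce ρ ⊓ Ce σ : Subgroup G) := fun e => by
      obtain ⟨j, hj, e⟩ := exists_ord Nat.prime_two e
      exact h.ncρσ (h.conjρ (h.invCx h.ρK h.ρ15 h.ρ1 hj.1 (by rw [← sq, ← e, pow_orderOf_eq_one])
        (by rintro rfl; simp at e)) (mem_Ce.2 (mem_Ce.1 hj.2).symm) h.oσ).symm
    rw [e, h.oρ] at a2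
    rw [h.cardE] at a1 ⊢
    have := Nat.le_of_dvd (by norm_num) a2
    generalize Nat.card (Ce ρ ⊓ Ce σ : Subgroup G) = m at *
    interval_cases m <;> omega
  refine le_antisymm ((cent_hom φ e (mem_Ce.2 h.σρ) (by
    rw [show 15 = 3 * 5 from rfl, pow_mul, h.σ3, one_pow]) fun e => h.σt ?_).trans
      (sup_le_sup_right inf_le_left _)) h1
  exact mem_Ce.1 (zpowers_le.2 (h.KC h.ρK) e)

theorem exists_S : ∃ S, H1.IsSylowIn 3 S ⊤ ∧ EE σ ρ ≤ S :=
  haveI : Fact (Nat.Prime 3) := ⟨Nat.prime_three⟩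
  H1.exists_isSylowIn_ge le_top (IsPGroup.of_card (n := 2) h.cardE)

theorem cardS (hS : H1.IsSylowIn 3 S ⊤) : Nat.card S = 27 :=
  haveI : Fact (Nat.Prime 3) := ⟨Nat.prime_three⟩
  card_syl (k := 3) (m := 22400) hS (card_top.trans h.order) (by norm_num)

theorem notC (hS : H1.IsSylowIn 3 S ⊤) (e : IsConj ρ x) : ¬ S ≤ Ce x := fun e' => by
  have h1 := card_dvd_of_le e'
  have h2 := h.cardCρ
  rw [h.cardS hS, card_Ce_conj e] at h1
  omega

variable (hS : H1.IsSylowIn 3 S ⊤) (hE : EE σ ρ ≤ S)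
include hS hE

theorem SN : S ≤ normalizer (EE σ ρ : Set G) := by
  haveI : Fact (Nat.Prime 3) := ⟨Nat.prime_three⟩
  have h1 := H1.card_lt_of_lt (H1.lt_normalizer_inf_of_isNilpotent hS.isPGroup.isNilpotent
    (hE.lt_of_ne fun e => by simpa [← e, h.cardE] using h.cardS hS))
  have h2 := card_dvd_of_le (inf_le_right : normalizer (EE σ ρ : Set G) ⊓ S ≤ S)
  refine inf_eq_right.1 (eq_of_le_of_card_ge inf_le_right ?_)
  rw [h.cardE] at h1
  rw [h.cardS hS] at h2 ⊢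
  by_contra h3
  generalize Nat.card (normalizer (EE σ ρ : Set G) ⊓ S : Subgroup G) = m at *
  have : m < 27 := by omega
  interval_cases m <;> omega

theorem σS : S ≤ Ce σ := by
  by_contra e
  have h1 : ∀ x ∈ EE σ ρ, x ≠ 1 → cls S x ⊆ (EE σ ρ : Set G) \ {1} := fun x hx e _ ⟨g, hg, e'⟩ =>
    e' ▸ ⟨(h.SN hS hE hg x).1 hx, by simpa using e⟩
  have h2 := Set.ncard_le_ncard (Set.union_subset (Set.union_subset
    (h1 ρ (mem_sup_left (mem_zpowers ρ)) h.ρ1)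
    (h1 ρ⁻¹ (inv_mem (mem_sup_left (mem_zpowers ρ))) (by simpa using h.ρ1)))
    (h1 σ (mem_sup_right (mem_zpowers σ)) fun e => by simpa [e] using h.oσ))
  have h3 := (cls3 (h.cardS hS) (h.notC hS (IsConj.refl _))).2
  have h4 := (cls3 (h.cardS hS) (h.notC hS h.realρ)).2
  have h5 := (cls3 (h.cardS hS) e).2
  have h6 : Disjoint (cls S ρ) (cls S ρ⁻¹) :=
    Set.disjoint_left.2 fun y ⟨g, hg, a⟩ ⟨k, hk, b⟩ => sq_ne_of_three h.oρ (ne_inv_conj
      (p := k⁻¹ * g) (Odd.of_dvd_nat (by decide : Odd 27) (h.cardS hS ▸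
        S.orderOf_dvd_natCard (mul_mem (inv_mem hk) hg))) (by
      rw [← mul_left_inj k⁻¹, ← mul_right_inj k, ← mul_assoc k ρ⁻¹, b, ← a]; group))
  rw [Set.ncard_diff_singleton_of_mem (one_mem _), ncard_coe, h.cardE, Set.ncard_union_eq
    (Set.disjoint_left.2 fun y a b => h.ncρσ ((a.elim conj_of_cls fun a =>
      h.realρ.trans (conj_of_cls a)).trans (conj_of_cls b).symm)), Set.ncard_union_eq h6] at h2
  omega

theorem ZS : S ⊓ centralizer (S : Set G) = zpowers σ := by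
  have h1 : S ⊓ centralizer (S : Set G) < EE σ ρ := lt_of_le_of_ne (fun c hc => h.CE.le
    ⟨mem_Ce.2 (hc.2 ρ (hE (mem_sup_left (mem_zpowers ρ)))).symm,
      mem_Ce.2 (hc.2 σ (hE (mem_sup_right (mem_zpowers σ)))).symm⟩) fun e =>
    h.notC hS (IsConj.refl _) fun c hc => mem_Ce.2 ((e.ge (mem_sup_left (mem_zpowers ρ))).2 c hc)
  refine (eq_of_le_of_card_ge (zpowers_le.2 (mem_inf.2 ⟨hE (mem_sup_right (mem_zpowers σ)),
    mem_centralizer_iff.2 fun c hc => mem_Ce.1 (h.σS hS hE hc)⟩)) ?_).symm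
  have h2 := H1.card_lt_of_lt h1
  have h3 := card_dvd_of_le h1.le
  rw [h.cardE] at h2 h3
  rw [Nat.card_zpowers, h.oσ]
  generalize Nat.card (S ⊓ centralizer (S : Set G) : Subgroup G) = m at *
  interval_cases m <;> omega

theorem NS : normalizer (S : Set G) ≤ normalizer (zpowers σ : Set G) :=
  h.ZS hS hE ▸ H1.le_normalizer_inf le_rfl (H1.normalizer_le_normalizer_centralizer S)

theorem iS : 2 ∣ Nat.card (Ce σ ⊓ normalizer (S : Set G) : Subgroup G) := by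
  haveI : Fact (Nat.Prime 3) := ⟨Nat.prime_three⟩
  obtain ⟨i, a1, a2, a3⟩ := h.realK h.ρK (sq_ne_of_three h.oρ)
  have a4 : i ∈ Ce σ := mem_Ce.2 (h.σK i a1)
  have h1 : S ≤ normalizer (EE σ ρ : Set G) ⊓ Ce σ := le_inf (h.SN hS hE) (h.σS hS hE)
  have h2 := card_mul_cls (normalizer (EE σ ρ : Set G) ⊓ Ce σ) ρ
  have h3 := card_le_of_le (show Ce ρ ⊓ (normalizer (EE σ ρ : Set G) ⊓ Ce σ) ≤ EE σ ρ from
    fun x hx => h.CE.le ⟨hx.1, hx.2.2⟩)
  have h4 := Set.ncard_le_ncard (show cls (normalizer (EE σ ρ : Set G) ⊓ Ce σ) ρ ⊆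
    (EE σ ρ : Set G) \ zpowers σ from fun _ ⟨g, hg, e⟩ =>
      e ▸ ⟨(hg.1 ρ).1 (mem_sup_left (mem_zpowers ρ)), h.nzp (isConj_iff.2 ⟨g, rfl⟩)⟩)
  rw [Set.ncard_diff (le_sup_right : zpowers σ ≤ EE σ ρ), ncard_coe, ncard_coe, h.cardE,
    Nat.card_zpowers, h.oσ] at h4
  have h5 := h2.symm.trans_le (Nat.mul_le_mul h3 h4)
  have h6 := H1.card_mul_relIndex h1
  have h7 := syl_mod (hS.of_le h1 le_top)
  rw [h.cardE] at h5
  rw [h.cardS hS] at h6
  have h8 := relIndex_le_of_le_left (L := normalizer (EE σ ρ : Set G) ⊓ Ce σ)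
    (le_normalizer (H := S)) index_ne_zero_of_finite
  rw [← orderOf_eq_prime (hp := ⟨Nat.prime_two⟩) ((sq i).trans a2) fun e =>
    sq_ne_of_three h.oρ (mul_eq_one_iff_eq_inv.2 (by simpa [e] using a3))]
  exact orderOf_dvd_natCard _ ⟨a4, relIndex_eq_one.1 (by omega : (normalizer (S : Set G)).relIndex
    (normalizer (EE σ ρ : Set G) ⊓ Ce σ) = 1) ⟨zpowers_le.1 (H1.le_normalizer_sup
      (zpowers_le.2 (conj_inv_mem a3)) (zpowers_le.2 (centralizer_le_normalizer _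
        (centralizer_zpowers σ ▸ a4)))), a4⟩⟩

theorem card24 : ((S : Set G) \ zpowers σ).ncard = 24 := by
  rw [Set.ncard_diff (le_sup_right.trans hE : zpowers σ ≤ S), ncard_coe, ncard_coe, h.cardS hS,
    Nat.card_zpowers, h.oσ]

theorem cls24 (hx : x ∈ S) (h1 : x ∉ zpowers σ) :
    cls (normalizer (S : Set G)) x ⊆ (S : Set G) \ zpowers σ := fun _ ⟨g, hg, e⟩ =>
  e ▸ ⟨(hg x).1 hx, fun e => h1 ((h.NS hS hE hg x).2 e)⟩

end JE

namespace JF

variable {Q P K S : Subgroup G} {z s σ ρ t x y u a j : G} {π : Ce z →* A5}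
  (h : JF Q P z s σ ρ t K π)
include h

theorem conjσ (hj : IsConj z j) (hy : y ∈ Ce j) (ho : orderOf y = 3) : IsConj y σ := by
  obtain ⟨g, rfl⟩ := isConj_iff.1 hj
  exact (isConj_iff.2 ⟨g⁻¹, by simp⟩ : IsConj y (g⁻¹ * y * g)).trans (conj3 h.σH h.oσ
    (by rw [h.wq.ch]; norm_num) h.realσ (Ce_conj hy) (by simpa using (orderOf_conj' g⁻¹ y).trans ho))

theorem cardNS (hS : H1.IsSylowIn 3 S ⊤) (hE : EE σ ρ ≤ S) :
    Nat.card (normalizer (S : Set G)) = 216 := by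
  haveI : Fact (Nat.Prime 3) := ⟨Nat.prime_three⟩
  have h1 := card_mul_cls (normalizer (S : Set G)) σ
  have h2 : ({σ, σ⁻¹} : Set G).ncard = 2 := Set.ncard_pair fun e =>
    sq_ne_of_three h.oσ (mul_eq_one_iff_eq_inv.2 e)
  obtain ⟨g, hg⟩ := isConj_iff.1 h.realσ
  obtain ⟨k, a1, a2⟩ := (hS.of_le (h.σS hS hE) le_top).exists_mul_normalizer (g := g)
    (by
      rw [Ce, ← centralizer_zpowers σ]
      exact H1.normalizer_le_normalizer_centralizer _ (conj_inv_mem hg))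
  rw [(cls_zp3 h.oσ (h.NS hS hE)).antisymm (Set.pair_subset (self_mem_cls _ _) ⟨_, a2, by
    rw [mul_inv_rev, inv_inv, mul_assoc k⁻¹, mul_assoc k⁻¹, ← mul_assoc (g * σ), hg, ← mul_assoc,
      ← mul_inv_rev, ← mem_Ce.1 a1, mul_inv_rev, inv_mul_cancel_right]⟩), h2] at h1
  have h3 := h.iS hS hE
  have h4 := card_mul_cls (normalizer (S : Set G)) ρ
  have h5 := card_mul_cls (Ce ρ ⊓ normalizer (S : Set G)) σ
  have h6 := h5.symm.trans_le (Nat.mul_le_mul (card_le_of_le (show _ ≤ EE σ ρ from fun x hx =>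
    h.CE.le ⟨hx.2.1, hx.1⟩)) (Set.ncard_le_ncard (cls_zp3 h.oσ (inf_le_right.trans (h.NS hS hE)))))
  have h7 := h4.symm.trans_le (Nat.mul_le_mul h6 (Set.ncard_le_ncard
    (h.cls24 hS hE (hE (mem_sup_left (mem_zpowers ρ))) (h.nzp (IsConj.refl _)))))
  have h8 := card_dvd_of_le (le_normalizer (H := S))
  have h9 := syl_mod hS
  have h10 := H1.card_mul_relIndex (le_top : normalizer (S : Set G) ≤ ⊤)
  rw [h.card24 hS hE, h.cardE, h2] at h7
  rw [h.cardS hS] at h8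
  rw [card_top, h.order] at h10
  obtain ⟨j, e⟩ : 108 ∣ Nat.card (normalizer (S : Set G)) := by omega
  have : j ≤ 4 := by omega
  rw [e] at h10 ⊢
  interval_cases j <;> omega

theorem cls_three (ho : orderOf y = 3) : IsConj y σ ∨ IsConj y ρ := by
  haveI : Fact (Nat.Prime 3) := ⟨Nat.prime_three⟩
  obtain ⟨S, hS, hE⟩ := h.exists_S
  obtain ⟨k, -, e⟩ := hS.exists_le_conj le_top (pgrp_zp (ho ▸ pow_orderOf_eq_one y))
  have h1 : IsConj y (k⁻¹ * y * k) := isConj_iff.2 ⟨k⁻¹, by simp⟩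
  have h2 := H1.mem_conj_smul.1 (e (mem_zpowers y))
  have h3 : orderOf (k⁻¹ * y * k) = 3 := by simpa using (orderOf_conj' k⁻¹ y).trans ho
  generalize k⁻¹ * y * k = c at h1 h2 h3
  refine Or.imp h1.trans h1.trans ?_
  by_cases h4 : c ∈ zpowers σ
  · rcases mem_zp3 h.oσ h4 with rfl | rfl | rfl
    exacts [by simp at h3, .inl (IsConj.refl _), .inl h.realσ.symm]
  by_cases h5 : 2 ∣ Nat.card (Ce c ⊓ normalizer (S : Set G) : Subgroup G)
  · obtain ⟨j, hj, e⟩ := exists_ord Nat.prime_two h5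
    exact (h.invG e).imp (fun a => h.conjσ a (mem_Ce.2 (mem_Ce.1 hj.1).symm) h3)
      fun a => h.conjρ a (mem_Ce.2 (mem_Ce.1 hj.1).symm) h3
  have h6 := card_dvd_of_le (inf_le_right : Ce c ⊓ normalizer (S : Set G) ≤ _)
  rw [h.cardNS hS hE, show 216 = 3 ^ 3 * 2 ^ 3 from rfl] at h6
  obtain ⟨n, -, h7⟩ := (Nat.dvd_prime_pow Nat.prime_three).1 ((((Nat.prime_two.coprime_iff_not_dvd).2
    h5).symm.pow_right 3).dvd_of_dvd_mul_right h6)
  have h8 := (card_le_of_le (le_inf inf_le_left (hS.le_of_le_normalizer' le_top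
    (IsPGroup.of_card h7) inf_le_right))).trans (cls3 (h.cardS hS) fun e =>
      h4 ((h.ZS hS hE).le ⟨h2, fun a ha => mem_Ce.1 (e ha)⟩)).1
  have h9 := (card_mul_cls (normalizer (S : Set G)) c).symm.trans_le (Nat.mul_le_mul_right _ h8)
  rw [h.cardNS hS hE] at h9
  exact .inr (conj_of_cls ((Set.eq_of_subset_of_ncard_le (h.cls24 hS hE h2 h4)
    (by rw [h.card24 hS hE]; omega)).ge ⟨hE (mem_sup_left (mem_zpowers ρ)), h.nzp (IsConj.refl _)⟩))

end JF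

end Cfsg.Agent.J2T
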