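import Cfsg.Agent.J2T.I

/-! Groups of Hall–Janko type: Sylow 7-structure. -/

set_option autoImplicit false
set_option linter.unusedSectionVars false

namespace Cfsg.Agent.J2T

open Subgroup Cfsg.Agent.H10 Cfsg.Agent.JR
open scoped commutatorElement Pointwise

variable {G : Type*} [Group G] [Finite G]

theorem zp_eq_of_prime {p : ℕ} (hp : p.Prime) {D : Subgroup G} (hD : Nat.card D = p) {x : G}
    (hx : x ∈ D) (h1 : x ≠ 1) : zpowers x = D := eq_of_le_of_card_ge (zpowers_le.2 hx) (by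
  rw [Nat.card_zpowers, hD, ((Nat.dvd_prime hp).1 (hD ▸ D.orderOf_dvd_natCard hx)).resolve_left
    (mt orderOf_eq_one_iff.1 h1)])

namespace JF

variable {Q P K S D : Subgroup G} {z s σ ρ t x y u a j : G} {π : Ce z →* A5}
  (h : JF Q P z s σ ρ t K π)
include h

theorem not7σ : ¬ 7 ∣ Nat.card (Ce σ) := fun e => by
  obtain ⟨S, hS, hE⟩ := h.exists_S
  have h1 := card_dvd_of_le (h.σS hS hE)
  have h2 := card_dvd_of_le (show K ≤ Ce σ from fun k hk => mem_Ce.2 (h.σK k hk))
  have h4 := card_mul_cls (Ce σ) z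
  obtain ⟨x, a1, a2⟩ : ∃ x ∈ Om Q z, x ∉ ((Q ⊓ Ce σ : Subgroup G) : Set G) :=
    Set.exists_mem_notMem_of_ncard_lt_ncard (by
      rw [ncard_coe, h.cardQσ, (h.wq.main h.sOm).1]; norm_num)
  obtain ⟨g, hg⟩ := isConj_iff.1 (h.conjQ a1.1 a1.2.1 fun e => a1.2.2 (e ▸ one_mem _))
  have h5 := Set.ncard_lt_ncard ((Set.ssubset_iff_of_subset (show cls (Ce σ) z ⊆ cls ⊤ z from
    fun _ ⟨k, _, e⟩ => ⟨k, mem_top _, e⟩)).2 ⟨x, ⟨g, mem_top _, hg⟩, fun e => a2 ⟨a1.1, cls_subset
      (le_normalizer (H := Ce σ)) (mem_Ce.2 (mem_Ce.1 h.σH).symm) e⟩⟩)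
  have h6 := card_mul_cls ⊤ z
  have h7 := Nat.card_pos (α := Ce σ)
  rw [inf_top_eq, h.wq.ch, card_top, h.order] at h6
  rw [h.cardS hS] at h1
  rw [h.cardK] at h2
  rw [h.cardHσ] at h4
  have h8 : 315 ∣ (cls (Ce σ) z).ncard := (show Nat.Coprime 315 8 by norm_num).dvd_of_dvd_mul_left
    ((Nat.mul_dvd_mul_iff_left (by norm_num : 0 < 3)).1 (by
      rw [← mul_assoc, show 3 * 8 = 24 from rfl, h4]
      exact (show Nat.Coprime 27 (5 * 7) by norm_num).mul_dvd_of_dvd_of_dvd h1
        ((show Nat.Coprime 5 7 by norm_num).mul_dvd_of_dvd_of_dvd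
          ((show 5 ∣ 60 by norm_num).trans h2) e)))
  clear h1 h2 e
  have := Nat.le_of_dvd (Nat.pos_of_ne_zero fun e => by simp [← h4, e] at h7) h8
  clear h8 h4 h7
  omega

theorem seven (hD : H1.IsSylowIn 7 D ⊤) : centralizer (D : Set G) = D ∧
    Nat.card (normalizer (D : Set G)) = 42 ∧ ¬ IsMulCommutative (normalizer (D : Set G)) := by
  haveI : Fact (Nat.Prime 7) := ⟨by norm_num⟩
  have h1 : Nat.card D = 7 := card_syl (k := 1) (m := 86400) hD (card_top.trans h.order) (by norm_num)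
  obtain ⟨d, hd, h2⟩ := exists_ord Fact.out h1.symm.dvd
  have h3 : ∀ x ∈ D, x ≠ 1 → Ce x = centralizer (D : Set G) := fun x hx e => by
    rw [← zp_eq_of_prime Fact.out h1 hx e, centralizer_zpowers]
  have h4 : d ≠ 1 := by rintro rfl; simp at h2
  have h5 : D ≤ centralizer (D : Set G) := h3 d hd h4 ▸ zp_eq_of_prime Fact.out h1 hd h4 ▸
    zpowers_le.2 (mem_Ce.2 rfl)
  have h6 : ∀ x ∈ centralizer (D : Set G), 7 ∣ Nat.card (Ce x) := fun x hx =>
    h1 ▸ card_dvd_of_le fun c hc => mem_Ce.2 (hx c hc)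
  have h7 : ¬ 2 ∣ Nat.card (centralizer (D : Set G)) := fun e => by
    obtain ⟨x, hx, e⟩ := exists_ord Nat.prime_two e
    have := h6 x hx
    rcases h.invG e with e | e <;> rw [card_Ce_conj e] at this
    · rw [h.wq.ch] at this; omega
    · rw [h.cardCt] at this; omega
  have h8 : ¬ 3 ∣ Nat.card (centralizer (D : Set G)) := fun e => by
    obtain ⟨x, hx, e⟩ := exists_ord Nat.prime_three e
    have := h6 x hx
    rcases h.cls_three e with e | e <;> rw [← card_Ce_conj e] at this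
    · exact h.not7σ this
    · have := h.cardCρ; omega
  have h9 := dvd_ncard (H := normalizer (D : Set G))
    (d := (centralizer (D : Set G)).relIndex (normalizer (D : Set G))) _ ((D : Set G) \ {1}) rfl
    (fun g hg x => and_congr (hg x) (by simp)) fun x hx => by rw [h3 x hx.1 hx.2]
  rw [Set.ncard_diff_singleton_of_mem (one_mem _), ncard_coe, h1] at h9
  have h10 := H1.card_mul_relIndex (centralizer_le_normalizer (D : Set G))
  have h11 := H1.card_mul_relIndex (le_top : normalizer (D : Set G) ≤ ⊤)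
  have h12 := syl_mod hD
  have h13 := card_dvd_of_le h5
  have h14 : Nat.card (centralizer (D : Set G)) ∣ 175 := by
    have := card_subgroup_dvd_card (centralizer (D : Set G))
    rw [h.order, show 604800 = 175 * 2 ^ 7 * 3 ^ 3 from rfl] at this
    exact ((Nat.prime_two.coprime_iff_not_dvd.2 h7).symm.pow_right 7).dvd_of_dvd_mul_right
      (((Nat.prime_three.coprime_iff_not_dvd.2 h8).symm.pow_right 3).dvd_of_dvd_mul_right this)
  rw [card_top, h.order, ← h10] at h11
  rw [h1] at h13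
  have h15 : Nat.card (centralizer (D : Set G)) = 7 ∧
      (centralizer (D : Set G)).relIndex (normalizer (D : Set G)) = 6 := by
    have a1 := Nat.le_of_dvd (by norm_num) h9
    obtain ⟨c, a2⟩ := h13
    rw [a2, show 175 = 7 * 25 from rfl, Nat.mul_dvd_mul_iff_left (by norm_num)] at h14
    have a3 := Nat.le_of_dvd (by norm_num) h14
    rw [a2] at h11 ⊢
    generalize (centralizer (D : Set G)).relIndex (normalizer (D : Set G)) = e at *
    interval_cases c <;> simp at h14 <;> interval_cases e <;> omega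
  rw [h15.1, h15.2] at h10
  refine ⟨(eq_of_le_of_card_ge h5 (by omega)).symm, h10.symm, fun hc => ?_⟩
  have := card_le_of_le (show normalizer (D : Set G) ≤ centralizer (D : Set G) from fun g hg c a =>
    congrArg Subtype.val (hc.1.1 ⟨c, le_normalizer a⟩ ⟨g, hg⟩))
  omega

end JF

end Cfsg.Agent.J2T
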