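import Cfsg.Agent.J2T.J

/-! Groups of Hall–Janko type: Sylow 5-structure. -/

set_option autoImplicit false
set_option linter.unusedSectionVars false

namespace Cfsg.Agent.J2T

open Subgroup Cfsg.Agent.H10 Cfsg.Agent.JR
open scoped commutatorElement Pointwise

variable {G : Type*} [Group G] [Finite G]

theorem pow15 {x : G} (h : orderOf x = 5) : x ^ 15 = 1 :=
  orderOf_dvd_iff_pow_eq_one.1 (by rw [h]; norm_num)

theorem ne_one5 {x : G} (h : orderOf x = 5) : x ≠ 1 := by rintro rfl; simp at h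

/-- elements of `S` conjugate into `L` -/
def XL (S L : Subgroup G) : Set G := {x | (x ∈ S ∧ x ≠ 1) ∧ ∃ g, g * x * g⁻¹ ∈ L}

theorem XL_disj {S A B : Subgroup G} (hA : Nat.card A = 5) (hB : Nat.card B = 5)
    (h : ∀ g, A.map (MulAut.conj g).toMonoidHom ≠ B) : Disjoint (XL S A) (XL S B) :=
  Set.disjoint_left.2 fun x ⟨hx, g, a⟩ ⟨_, k, b⟩ => h (k * g⁻¹) (by
    rw [← zp_eq_of_prime Nat.prime_five hA a (by simpa using hx.2),
      ← zp_eq_of_prime Nat.prime_five hB b (by simpa using hx.2), MonoidHom.map_zpowers]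
    congr 1
    simp [mul_assoc])

theorem XL_ncard {S L : Subgroup G} {y : G} (hy : y ∈ normalizer (S : Set G)) (ho : orderOf y = 3)
    (hc : S ⊓ Ce y = ⊥) (hL : Nat.card L = 5) (hS : L ≤ S) : 9 ≤ (XL S L).ncard := by
  have h1 := dvd_diff Nat.prime_three ho (X := XL S L) fun x ⟨hx, g, e⟩ =>
    ⟨⟨(hy x).1 hx.1, by simpa using hx.2⟩, g * y⁻¹, by simpa [mul_assoc] using e⟩
  rw [sdiff_eq_left.2 (Set.disjoint_left.2 fun x hx e => hx.1.2 (mem_bot.1 (hc.le ⟨hx.1.1, e⟩)))] at h1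
  have h2 : L ⊓ L.map (MulAut.conj y).toMonoidHom = ⊥ := eq_bot_iff.2 fun x hx => by_contra fun e => by
    have a1 := (zp_eq_of_prime Nat.prime_five hL hx.1 e).symm.trans
      (zp_eq_of_prime Nat.prime_five ((card_conj L y).trans hL) hx.2 e)
    have a2 := dvd_diff Nat.prime_three ho (X := L) fun x hx => a1.ge ⟨x, hx, rfl⟩
    have a3 := ncard_split L (Ce y)
    rw [← coe_inf, ncard_coe, ncard_coe, hL, eq_bot_iff.2 ((inf_le_inf_right _ hS).trans hc.le),
      card_bot] at a3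
    omega
  have h3 := Set.ncard_union_add_ncard_inter (L : Set G) (L.map (MulAut.conj y).toMonoidHom)
  have h4 := Set.ncard_le_ncard (show ((L : Set G) ∪ L.map (MulAut.conj y).toMonoidHom) \ {1} ⊆
    XL S L by
      rintro _ ⟨hx | ⟨x, hx, rfl⟩, e⟩
      · exact ⟨⟨hS hx, e⟩, 1, by simpa using hx⟩
      · exact ⟨⟨(hy x).1 (hS hx), e⟩, y⁻¹, by simpa [mul_assoc] using hx⟩)
  rw [← coe_inf, h2, ncard_coe, ncard_coe, ncard_coe, card_conj, hL, card_bot] at h3
  rw [Set.ncard_diff_singleton_of_mem (Set.mem_union_left _ L.one_mem)] at h4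
  omega

namespace JF

variable {Q P K S D : Subgroup G} {z s σ ρ t x y u a j f w : G} {π : Ce z →* A5}
  (h : JF Q P z s σ ρ t K π)
include h

theorem not4 (hx : x ∈ Ce z) (ho : orderOf x = 5) : ¬ 4 ∣ Nat.card (Ce x) := fun e => by
  have h1 := h.cardHx hx (pow15 ho) (ne_one5 ho)
  rw [h.wq.cent5 hx ho, h.wq.cz, ho] at h1
  have h2 : zpowers z ≤ Ce x := zpowers_le.2 (mem_Ce.2 (mem_Ce.1 hx).symm)
  have h3 := H1.isSylowIn_of_isSylowIn_normalizer ((syl_of_card (p := 2) (k := 1) (m := 5)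
    (le_inf (zpowers_le.2 (mem_Ce.2 rfl)) h2) h.wq.cz h1 (by norm_num)).of_le
    (le_inf le_normalizer h2) (inf_le_inf_right _ fun g hg => mem_Ce.2 (mul_inv_eq_iff_eq_mul.1
      (((mem_zpowers_of_sq h.wq.zz).1 ((hg z).1 (mem_zpowers z))).resolve_left
        (by simpa using h.wq.ne_one)))))
  have h4 := H1.card_mul_relIndex h2
  have h5 := h3.not_dvd
  rw [h.wq.cz] at h4
  omega

theorem card25 (hS : H1.IsSylowIn 5 S ⊤) : Nat.card S = 5 ^ 2 :=
  haveI : Fact (Nat.Prime 5) := ⟨Nat.prime_five⟩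
  card_syl (m := 24192) hS (card_top.trans h.order) (by norm_num)

theorem comm25 (hS : H1.IsSylowIn 5 S ⊤) (hx : x ∈ S) : S ≤ Ce x := fun y hy =>
  haveI : Fact (Nat.Prime 5) := ⟨Nat.prime_five⟩
  mem_Ce.2 (congrArg Subtype.val
    ((IsPGroup.commGroupOfCardEqPrimeSq (h.card25 hS)).mul_comm ⟨y, hy⟩ ⟨x, hx⟩))

theorem five : ∃ S, H1.IsSylowIn 5 S ⊤ ∧ centralizer (S : Set G) = S ∧
    Nat.card (normalizer (S : Set G)) = 300 ∧ ∃ X Y : Subgroup G, Nat.card X = 5 ∧ Nat.card Y = 5 ∧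
      (∀ g : G, X.map (MulAut.conj g).toMonoidHom ≠ Y) ∧ ∀ W : Subgroup G, Nat.card W = 5 →
        ∃ g : G, W.map (MulAut.conj g).toMonoidHom = X ∨ W.map (MulAut.conj g).toMonoidHom = Y := by
  haveI : Fact (Nat.Prime 5) := ⟨Nat.prime_five⟩
  obtain ⟨f, hf, o1⟩ := exists_ord (K := K) Nat.prime_five (by rw [h.cardK]; norm_num)
  obtain ⟨S, hS, hfS⟩ := H1.exists_isSylowIn_ge (le_top : zpowers f ≤ ⊤)
    (pgrp_zp (o1 ▸ pow_orderOf_eq_one f))
  replace hfS := zpowers_le.1 hfS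
  have c1 := h.card25 hS
  have c2 := card_dvd_of_le (h.comm25 hS hfS)
  have c3 : Nat.card (Ce f) = 300 := by
    have := h.cardCx hf (pow15 o1) (ne_one5 o1)
    rw [c1] at c2
    rw [o1] at this
    generalize Nat.card (Ce f) = m at *
    omega
  obtain ⟨w, hw, o2, c4⟩ : ∃ w ∈ S, orderOf w = 5 ∧ ¬ 4 ∣ Nat.card (Ce w) := by
    obtain ⟨x, hx, o⟩ := h.wq.exists_five
    obtain ⟨k, -, e⟩ := hS.exists_le_conj le_top (pgrp_zp (o ▸ pow_orderOf_eq_one x))
    exact ⟨_, H1.mem_conj_smul.1 (e (mem_zpowers x)), by simpa using (orderOf_conj' k⁻¹ x).trans o,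
      card_Ce_conj (isConj_iff.2 ⟨k⁻¹, by simp⟩ : IsConj x (k⁻¹ * x * k)) ▸ h.not4 hx o⟩
  have z1 : Nat.card (zpowers f) = 5 := (Nat.card_zpowers f).trans o1
  have z2 : Nat.card (zpowers w) = 5 := (Nat.card_zpowers w).trans o2
  have c5 : ∀ g : G, (zpowers f).map (MulAut.conj g).toMonoidHom ≠ zpowers w := fun g e => c4 (by
    rw [Ce, ← centralizer_zpowers, ← e, ← conj_centralizer, card_conj, centralizer_zpowers, c3]
    norm_num)
  have c6 : ∀ g : G, g * f * g⁻¹ ∉ zpowers w := fun g e => c5 g (by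
    rw [MonoidHom.map_zpowers]
    exact zp_eq_of_prime Nat.prime_five z2 e (by simpa using ne_one5 o1))
  have h1 : centralizer (S : Set G) = S := by
    obtain ⟨φ, -, e⟩ := (h.Cx hf (pow15 o1) (ne_one5 o1)).resolve_left (by omega)
    exact le_antisymm (fun c hc => sup_le (inf_le_left.trans (zpowers_le.2 hfS)) (zpowers_le.2 hw)
      (cent_hom φ e (h.comm25 hS hfS hw) (pow15 o2) (fun e => c5 1 (by
        simpa using (zp_eq_of_prime Nat.prime_five z1 e (ne_one5 o2)).symm))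
        ⟨mem_Ce.2 (hc f hfS).symm, mem_Ce.2 (hc w hw).symm⟩))
      fun x hx y hy => mem_Ce.1 (h.comm25 hS hx hy)
  have h2 : ∀ y ∈ normalizer (S : Set G), orderOf y = 3 → S ⊓ Ce y = ⊥ := fun y hy o => by
    have a1 := dvd_diff Nat.prime_three o (X := S) fun x hx => (hy x).1 hx
    have a2 := ncard_split S (Ce y)
    have a3 := card_dvd_of_le (inf_le_left : S ⊓ Ce y ≤ S)
    have a4 : Nat.card (S ⊓ Ce y : Subgroup G) ≠ 25 := fun e => by
      have := S.orderOf_dvd_natCard (h1.le fun x hx => mem_Ce.1 ((eq_of_le_of_card_ge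
        (inf_le_left : S ⊓ Ce y ≤ S) (by omega)).ge hx).2 : y ∈ S)
      rw [o, c1] at this
      omega
    rw [← coe_inf, ncard_coe, ncard_coe, c1] at a2
    obtain ⟨k, hk, e⟩ := (Nat.dvd_prime_pow Nat.prime_five).1 (c1 ▸ a3)
    refine card_eq_one.1 ?_
    interval_cases k <;> omega
  have h3 : Nat.card (Ce f ⊓ normalizer (S : Set G) : Subgroup G) = 50 := by
    have a1 := syl_mod (hS.of_le (h.comm25 hS hfS) le_top)
    have a2 := H1.card_inf_mul_relIndex (normalizer (S : Set G)) (Ce f)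
    obtain ⟨c, a3⟩ := card_dvd_of_le (le_inf (h.comm25 hS hfS) le_normalizer)
    have a4 : ¬ 3 ∣ Nat.card (Ce f ⊓ normalizer (S : Set G) : Subgroup G) := fun e => by
      obtain ⟨y, hy, o⟩ := exists_ord Nat.prime_three e
      exact ne_one5 o1 (mem_bot.1 ((h2 y hy.2 o).le ⟨hfS, mem_Ce.2 (mem_Ce.1 hy.1).symm⟩))
    rw [inf_comm, c3] at a2
    have a5 := Nat.le_of_dvd (by norm_num) (Dvd.intro _ a2)
    rw [a3, c1] at a2 a4 a5 ⊢
    have : c ≤ 12 := by omega
    interval_cases c <;> omega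
  have h4 : Nat.card (normalizer (S : Set G)) = 300 := by
    have a1 := card_mul_cls (normalizer (S : Set G)) f
    have a2 := card_mul_cls (normalizer (S : Set G)) w
    have a3 := Set.ncard_le_ncard (show cls (normalizer (S : Set G)) f ⊆ (S : Set G) \ zpowers w from
      fun _ ⟨g, hg, e⟩ => e ▸ ⟨(hg f).1 hfS, c6 g⟩)
    have a4 := Set.ncard_le_ncard (show cls (normalizer (S : Set G)) w ⊆
      ((S : Set G) \ {1}) \ cls (normalizer (S : Set G)) f from fun _ ⟨g, hg, e⟩ => e ▸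
        ⟨⟨(hg w).1 hw, by simpa using ne_one5 o2⟩, fun ⟨k, _, e'⟩ => c6 (g⁻¹ * k) (by
          rw [show g⁻¹ * k * f * (g⁻¹ * k)⁻¹ = g⁻¹ * (k * f * k⁻¹) * g by group, e']
          simp [mul_assoc])⟩)
    have a5 : f * f ≠ 1 := fun e => by
      have := orderOf_dvd_of_pow_eq_one ((sq f).trans e)
      rw [o1] at this
      omega
    obtain ⟨i, -, -, e⟩ := h.realK hf a5
    obtain ⟨n, -, hn, e'⟩ := burn hS (fun a ha b hb => mem_Ce.1 (h.comm25 hS hb ha)) hfS (mem_top i)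
      (e ▸ inv_mem hfS)
    have a6 := Set.ncard_le_ncard (Set.pair_subset (self_mem_cls _ f) ⟨n, hn, e'.trans e⟩)
    have a7 := syl_mod hS
    have a8 := H1.card_mul_relIndex (le_top : normalizer (S : Set G) ≤ ⊤)
    have a9 : ¬ 4 ∣ Nat.card (Ce w ⊓ normalizer (S : Set G) : Subgroup G) := fun e =>
      c4 (e.trans (card_dvd_of_le inf_le_left))
    rw [Set.ncard_pair fun e => a5 (mul_eq_one_iff_eq_inv.2 e)] at a6
    rw [Set.ncard_diff (zpowers_le.2 hw), ncard_coe, ncard_coe, c1, z2] at a3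
    rw [Set.ncard_diff (show cls (normalizer (S : Set G)) f ⊆ (S : Set G) \ {1} from
      fun _ ⟨g, hg, e⟩ => e ▸ ⟨(hg f).1 hfS, by simpa using ne_one5 o1⟩),
      Set.ncard_diff_singleton_of_mem S.one_mem, ncard_coe, c1] at a4
    rw [card_top, h.order, ← a1, h3] at a8
    rw [← a1, h3] at a2 ⊢
    generalize (cls (normalizer (S : Set G)) f).ncard = m at *
    generalize (cls (normalizer (S : Set G)) w).ncard = m' at *
    clear c2 c4
    have : m = 6 ∨ m = 16 := by interval_cases m <;> omega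
    rcases this with rfl | rfl
    · rfl
    have : m' ≤ 8 := by omega
    interval_cases m' <;> omega
  refine ⟨S, hS, h1, h4, _, _, z1, z2, c5, fun W hW => by_contra fun hn => ?_⟩
  push Not at hn
  obtain ⟨y, hy, o⟩ := exists_ord (K := normalizer (S : Set G)) Nat.prime_three (by rw [h4]; norm_num)
  obtain ⟨k, -, e⟩ := hS.exists_le_conj le_top (IsPGroup.of_card (n := 1) hW)
  have b1 : W.map (MulAut.conj k⁻¹).toMonoidHom ≤ S := by
    rintro _ ⟨x, hx, rfl⟩
    simpa using H1.mem_conj_smul.1 (e hx)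
  have b2 := (card_conj W k⁻¹).trans hW
  have b3 := XL_ncard hy o (h2 y hy o) z1 (zpowers_le.2 hfS)
  have b4 := XL_ncard hy o (h2 y hy o) z2 (zpowers_le.2 hw)
  have b5 := XL_ncard hy o (h2 y hy o) b2 b1
  have b6 : ∀ L, XL S (W.map (MulAut.conj k⁻¹).toMonoidHom) ⊆ XL S L ↔ XL S W ⊆ XL S L := fun L => by
    rw [show XL S (W.map (MulAut.conj k⁻¹).toMonoidHom) = XL S W from Set.ext fun x =>
      and_congr_right fun _ => ⟨fun ⟨g, e⟩ => ⟨k * g, by simpa [mul_assoc] using mem_conj_iff.1 e⟩,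
        fun ⟨g, e⟩ => ⟨k⁻¹ * g, mem_conj_iff.2 (by simpa [mul_assoc] using e)⟩⟩]
  replace b5 := b5.trans (Set.ncard_le_ncard ((b6 W).2 subset_rfl))
  have b7 := Set.ncard_le_ncard (show XL S W ∪ (XL S (zpowers f) ∪ XL S (zpowers w)) ⊆
    (S : Set G) \ {1} from Set.union_subset (fun _ a => a.1)
      (Set.union_subset (fun _ a => a.1) fun _ a => a.1))
  rw [Set.ncard_diff_singleton_of_mem S.one_mem, ncard_coe, c1, Set.ncard_union_eq
    (Set.disjoint_union_right.2 ⟨XL_disj hW z1 fun g => (hn g).1, XL_disj hW z2 fun g => (hn g).2⟩),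
    Set.ncard_union_eq (XL_disj z1 z2 c5)] at b7
  omega

end JF

end Cfsg.Agent.J2T
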