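import Cfsg.Agent.J2T.L
import Cfsg.Agent.H6.ZStar

/-! Groups of Hall–Janko type: the central involution is not weakly closed. -/

set_option autoImplicit false
set_option linter.unusedSectionVars false

namespace Cfsg.Agent.J2T

open Subgroup Cfsg.Agent.H10 Cfsg.Agent.JR
open scoped commutatorElement Pointwise

variable {G : Type*} [Group G] [Finite G]

theorem card_mul_le {A B C : Subgroup G} (hA : A ≤ C) (hB : B ≤ C) :
    Nat.card A * Nat.card B ≤ Nat.card (A ⊓ B : Subgroup G) * Nat.card C := by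
  rw [← H1.card_inf_mul_relIndex A B, ← H1.card_mul_relIndex hA, mul_left_comm]
  exact Nat.mul_le_mul_left _ (Nat.mul_le_mul_left _
    (relIndex_le_of_le_right hB index_ne_zero_of_finite))

theorem A5_inv1 : ∀ a : A5, a * a = 1 → a ≠ 1 → ∃ c : A5, c * a5 * c⁻¹ = a := by decide +kernel

theorem A5_inv2 : ∀ a : A5, a * a = 1 → a ≠ 1 →
    ∃ c : A5, (a * (c * a * c⁻¹)) ^ 5 = 1 ∧ (a * (c * a * c⁻¹)) ^ 4 ≠ 1 := by decide +kernel

namespace JW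

variable {Q : Subgroup G} {z s x y f a b q : G} (h : JW Q z)

/-- the elements of `Q` centralizing `a` modulo the centre -/
def WW (a : G) : Subgroup G where
  carrier := {q | q ∈ Q ∧ ⁅a, q⁆ ∈ zpowers z}
  mul_mem' := fun {p q} hp hq => ⟨mul_mem hp.1 hq.1, by
    rw [show ⁅a, p * q⁆ = ⁅a, p⁆ * (p * ⁅a, q⁆ * p⁻¹) by simp only [commutatorElement_def]; group,
      h.comm_of_mem_z hq.2 (h.cent p hp.1), mul_inv_cancel_right]
    exact mul_mem hp.2 hq.2⟩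
  one_mem' := ⟨one_mem _, by simp⟩
  inv_mem' := fun {q} hq => ⟨inv_mem hq.1, by
    rw [show ⁅a, q⁻¹⁆ = q⁻¹ * ⁅a, q⁆⁻¹ * q by simp only [commutatorElement_def]; group,
      h.comm_of_mem_z (inv_mem hq.2) (h.cent _ (inv_mem hq.1)), inv_mul_cancel_right]
    exact inv_mem hq.2⟩

theorem WW_le : h.WW a ≤ Q := fun _ hq => hq.1

theorem WW_mul (ha : a ∈ Ce z) : h.WW a ⊓ h.WW b ≤ h.WW (a * b) := fun q hq => ⟨hq.1.1, by
  rw [show ⁅a * b, q⁆ = a * ⁅b, q⁆ * a⁻¹ * ⁅a, q⁆ by simp only [commutatorElement_def]; group,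
    h.comm_of_mem_z hq.2.2 (mem_Ce.1 ha), mul_inv_cancel_right]
  exact mul_mem hq.2.2 hq.1.2⟩

theorem WW_pow (ha : a ∈ Ce z) : ∀ n : ℕ, h.WW a ≤ h.WW (a ^ n)
  | 0 => fun _ hq => ⟨hq.1, by simp⟩
  | n + 1 => (le_inf le_rfl (WW_pow ha n)).trans (pow_succ' a n ▸ h.WW_mul ha)

theorem WW_five (hf : f ∈ Ce z) (h5 : orderOf f = 5) : h.WW f ≤ zpowers z := fun q hq => by
  refine (h.cent5 hf h5).le ⟨hq.1, mem_Ce.2 (commutatorElement_eq_one_iff_mul_comm.1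
    ((h.mem_z.1 hq.2).resolve_right fun e => h.ne_one ?_)).symm⟩
  have e1 : f * q * f⁻¹ = z * q := by rw [← e, commutatorElement_def, inv_mul_cancel_right]
  have e2 : f * (f * q * f⁻¹) * f⁻¹ = q := by
    rw [e1, ← conj_mul, e1, mem_Ce.1 hf, mul_inv_cancel_right, ← mul_assoc, h.zz, one_mul]
  have e3 : Commute (f ^ 2) q := mul_inv_eq_iff_eq_mul.1 (by
    rw [sq]; exact Eq.trans (by group) e2)
  have e4 := e3.pow_left 3
  rw [← pow_mul, show 2 * 3 = 5 + 1 from rfl, pow_succ, ← h5, pow_orderOf_eq_one, one_mul] at e4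
  rw [← e, commutatorElement_eq_one_iff_commute.2 e4]

theorem WW_conj (hb : b ∈ Ce z) : Nat.card (h.WW a) ≤ Nat.card (h.WW (b * a * b⁻¹)) := by
  rw [← card_conj (h.WW a) b]
  refine card_le_of_le ?_
  rintro _ ⟨q, hq, rfl⟩
  refine ⟨h.conj_mem (mem_Ce.1 hb) hq.1, ?_⟩
  change ⁅b * a * b⁻¹, b * q * b⁻¹⁆ ∈ _
  rw [← conjugate_commutatorElement, h.comm_of_mem_z hq.2 (mem_Ce.1 hb), mul_inv_cancel_right]
  exact hq.2

theorem WW_inv (hq : q ∈ Q) (a2 : a * a = 1) (e : q * a * (q * a) = 1) : q ∈ h.WW a := ⟨hq, by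
  have : ⁅a, q⁆ = (q * q)⁻¹ := by
    rw [commutatorElement_def, inv_eq_of_mul_eq_one_right a2]
    calc _ = q⁻¹ * (q * a * (q * a)) * q⁻¹ := by group
      _ = _ := by rw [e]; group
  exact this ▸ inv_mem (h.sq q hq)⟩

include h

theorem cls_mem (ha : a ∈ Ce z) (a2 : a * a = 1) (hy : y ∈ cls Q a) :
    y * a⁻¹ ∈ Q ∧ y * y = 1 := by
  obtain ⟨q, hq, rfl⟩ := hy
  refine ⟨?_, by rw [conj_mul, a2]; simp⟩
  rw [mul_assoc, mul_assoc, ← mul_assoc a]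
  exact mul_mem hq (h.conj_mem (mem_Ce.1 ha) (inv_mem hq))

theorem exists_W (ha : a ∈ Ce z) (hq : a ∉ Q) (a2 : a * a = 1) (hW : Nat.card (h.WW a) ≤ 8) :
    ∃ q ∈ h.WW a, q * a ≠ a * q := by
  by_contra! hc
  have a1 : ∀ q ∈ Q, ⁅q, a⁆ ∈ Q ∧ ⁅q, a⁆ * ⁅q, a⁆ = 1 := fun q hq => by
    obtain ⟨b1, b2⟩ := h.cls_mem ha a2 ⟨q, hq, rfl⟩
    have b3 : ⁅q, a⁆ * a * (⁅q, a⁆ * a) = 1 := by simpa [commutatorElement_def] using b2
    have b4 := hc ⁅q, a⁆ (h.WW_inv b1 a2 b3)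
    refine ⟨b1, ?_⟩
    rwa [mul_assoc, ← mul_assoc a, ← b4, mul_assoc, a2, mul_one] at b3
  have a3 : ∀ q ∈ Q, ⁅q, a⁆ ∈ zpowers z → ⁅q, a⁆ = 1 := fun q hq e =>
    commutatorElement_eq_one_iff_mul_comm.2 (hc q ⟨hq, by simpa using inv_mem e⟩)
  obtain ⟨p, hp, e⟩ : ∃ p ∈ Q, p * a ≠ a * p := by
    by_contra! e
    exact hq (h.zpowers_le (h.cQ a e))
  have hs : ⁅p, a⁆ ∈ Om Q z := ⟨(a1 p hp).1, (a1 p hp).2, fun e' =>
    e (commutatorElement_eq_one_iff_mul_comm.1 (a3 p hp e'))⟩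
  have a4 : cls Q a ⊆ {a, ⁅p, a⁆ * a, z * ⁅p, a⁆ * a} := by
    rintro _ ⟨q, hq, rfl⟩
    have b1 := (a1 _ (mul_mem hq hp)).2
    have b2 : ⁅q, a⁆ * ⁅p, a⁆ = ⁅p, a⁆ * ⁅q, a⁆ := by
      by_contra b2
      rw [show ⁅q * p, a⁆ = q * ⁅p, a⁆ * q⁻¹ * ⁅q, a⁆ by
        simp only [commutatorElement_def]; group] at b1
      have b3 := h.conj_mem (h.cent q hq) hs.1
      rw [h.sq_mul b3 (a1 q hq).1, conj_mul, hs.2.1, (a1 q hq).2] at b1
      · exact h.ne_one (by simpa using b1)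
      by_cases b4 : q * ⁅p, a⁆ = ⁅p, a⁆ * q
      · rwa [b4, mul_inv_cancel_right]
      · rw [h.conj_eq_of_ne hq hs.1 b4, ← mul_assoc, h.cent _ (a1 q hq).1, mul_assoc, mul_assoc]
        exact fun e => b2 (mul_left_cancel e)
    have b3 : q * a * q⁻¹ = ⁅q, a⁆ * a := by simp [commutatorElement_def]
    rw [b3]
    rcases (H11.mem_four_iff h.zz hs.2.1 (h.cent _ hs.1).symm).1
      ((h.main hs).2 _ (a1 q hq).1 b2 (a1 q hq).2) with e | e | e | e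
    · simp [e]
    · exact absurd (e.symm.trans (a3 q hq (e ▸ mem_zpowers _))) h.ne_one
    · simp [e]
    · simp [e]
  have a5 := card_mul_cls Q a
  have a6 := (Set.ncard_le_ncard a4).trans (Set.ncard_insert_le _ _)
  have a7 := Set.ncard_insert_le (⁅p, a⁆ * a) {z * ⁅p, a⁆ * a}
  have a8 := card_le_of_le (show Ce a ⊓ Q ≤ h.WW a from fun q hq =>
    ⟨hq.2, commutatorElement_eq_one_iff_mul_comm.2 (mem_Ce.1 hq.1).symm ▸ one_mem _⟩)
  rw [Set.ncard_singleton] at a7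
  rw [h.cq] at a5
  have := Nat.mul_le_mul (a8.trans hW) (show (cls Q a).ncard ≤ 3 by omega)
  omega

theorem coset (ha : a ∈ Ce z) (hq : a ∉ Q) (a2 : a * a = 1) (hW : Nat.card (h.WW a) ≤ 8) :
    (∀ y, y * a⁻¹ ∈ Q → y * y = 1 → y ∈ cls Q a) ∧ ∃ s ∈ Om Q z, s * a = a * s := by
  obtain ⟨p, hp, e⟩ := h.exists_W ha hq a2 hW
  have a1 := H1.card_lt_of_lt (show Ce a ⊓ Q < h.WW a from lt_of_le_of_ne (fun q hq =>
    ⟨hq.2, commutatorElement_eq_one_iff_mul_comm.2 (mem_Ce.1 hq.1).symm ▸ one_mem _⟩)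
      fun e' => e (mem_Ce.1 (e'.ge hp).1))
  have a2' : ∀ y, y * a⁻¹ ∈ Q → y * y = 1 → y ∈ (· * a) '' (h.WW a : Set G) := fun y h1 h2 =>
    ⟨y * a⁻¹, h.WW_inv h1 a2 (by simpa using h2), by simp⟩
  have a3 : cls Q a ⊆ (· * a) '' (h.WW a : Set G) := fun y hy =>
    a2' y (h.cls_mem ha a2 hy).1 (h.cls_mem ha a2 hy).2
  have a4 := Set.ncard_le_ncard a3
  have a5 := card_mul_cls Q a
  have a6 : ((· * a) '' (h.WW a : Set G)).ncard = Nat.card (h.WW a) := by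
    rw [Set.ncard_image_of_injective _ (mul_left_injective a), ncard_coe]
  rw [h.cq] at a5
  have a7 : Nat.card (Ce a ⊓ Q : Subgroup G) = 4 ∧ (cls Q a).ncard = 8 := by
    have b1 : Nat.card (Ce a ⊓ Q : Subgroup G) < 8 := by omega
    have b2 : (cls Q a).ncard ≤ 8 := by omega
    generalize Nat.card (Ce a ⊓ Q : Subgroup G) = m at *
    interval_cases m <;> omega
  have a8 := Set.eq_of_subset_of_ncard_le a3 (by omega)
  refine ⟨fun y h1 h2 => a8 ▸ a2' y h1 h2, ?_⟩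
  obtain ⟨s, hs, h1⟩ : ∃ s ∈ ((Ce a ⊓ Q : Subgroup G) : Set G), s ∉ (zpowers z : Set G) :=
    Set.exists_mem_notMem_of_ncard_lt_ncard (by rw [ncard_coe, ncard_coe, h.cz, a7.1]; norm_num)
  have a9 := (h.cls_mem ha a2 (a8.ge ⟨s, ⟨hs.2, commutatorElement_eq_one_iff_mul_comm.2
    (mem_Ce.1 hs.1).symm ▸ one_mem _⟩, rfl⟩)).2
  dsimp only at a9
  rw [mul_assoc, ← mul_assoc a, ← mem_Ce.1 hs.1, mul_assoc, a2, mul_one] at a9
  exact ⟨s, ⟨hs.2, a9, h1⟩, mem_Ce.1 hs.1⟩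

variable {π : Ce z →* A5} (sur : Function.Surjective π) (ker : ∀ x, π x = 1 ↔ x.1 ∈ Q)
include sur ker

theorem card_WW (ha : a ∈ Ce z) (hq : a ∉ Q) (a2 : a * a = 1) : Nat.card (h.WW a) ≤ 8 := by
  obtain ⟨c, c1, c2⟩ := A5_inv2 (π ⟨a, ha⟩) (by
    rw [← map_mul, ← π.map_one]; exact congrArg π (Subtype.ext a2)) fun e => hq ((ker _).1 e)
  obtain ⟨c, rfl⟩ := sur c
  rw [← map_inv, ← map_mul, ← map_mul, ← map_mul, ← map_pow] at c1 c2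
  have b1 : (a * (c * a * c⁻¹)) ^ 5 ∈ Q := (ker _).1 c1
  have b2 : (a * (c * a * c⁻¹)) ^ 4 ≠ 1 := fun e => c2 ((ker _).2 (by
    change (a * (c * a * c⁻¹)) ^ 4 ∈ Q
    rw [e]; exact one_mem _))
  have b3 : a * (c * a * c⁻¹) ∈ Ce z := mul_mem ha (mul_mem (mul_mem c.2 ha) (inv_mem c.2))
  haveI : Fact (Nat.Prime 5) := ⟨Nat.prime_five⟩
  have b4 := card_le_of_le (((h.WW_mul ha).trans (h.WW_pow b3 4)).trans (h.WW_five (pow_mem b3 4)
    (orderOf_eq_prime (by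
      rw [← pow_mul, mul_comm, pow_mul, show 4 = 2 * 2 from rfl, pow_mul, sq, sq,
        h.sq_of_mem_z (h.sq _ b1)]) b2)))
  have b5 := (Nat.mul_le_mul_left _ (h.WW_conj c.2)).trans
    (card_mul_le (h.WW_le (a := a)) (h.WW_le (a := c * a * c⁻¹)))
  rw [h.cz] at b4
  rw [h.cq] at b5
  nlinarith

theorem conj_out (ha : a ∈ Ce z) (hq : a ∉ Q) (a2 : a * a = 1) (hb : b ∈ Ce z) (hq' : b ∉ Q)
    (b2 : b * b = 1) : IsConj a b := by
  have key : ∀ a, ∀ ha : a ∈ Ce z, a ∉ Q → a * a = 1 → ∃ c, π c * a5 * (π c)⁻¹ = π ⟨a, ha⟩ :=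
    fun a ha hq a2 => sur.exists.1 (A5_inv1 (π ⟨a, ha⟩) (by
      rw [← map_mul, ← π.map_one]; exact congrArg π (Subtype.ext a2)) fun e => hq ((ker _).1 e))
  obtain ⟨c, e1⟩ := key a ha hq a2
  obtain ⟨d, e2⟩ := key b hb hq' b2
  have e3 := (ker ((c * d⁻¹) * ⟨b, hb⟩ * (c * d⁻¹)⁻¹ * ⟨a, ha⟩⁻¹)).1 (by
    simp only [map_mul, map_inv, ← e1, ← e2]; group)
  refine (conj_of_cls ((h.coset ha hq a2 (h.card_WW sur ker ha hq a2)).1 _ e3 ?_)).trans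
    (isConj_iff.2 ⟨_, rfl⟩).symm
  change (c * d⁻¹ : G) * b * (c * d⁻¹ : G)⁻¹ * ((c * d⁻¹ : G) * b * (c * d⁻¹ : G)⁻¹) = 1
  rw [conj_mul, b2]; simp

theorem nwc [IsSimpleGroup G] : ∃ g, g * z * g⁻¹ ∈ Q ∧ g * z * g⁻¹ ≠ z := by
  by_contra! hn
  haveI : Fact (Nat.Prime 2) := ⟨Nat.prime_two⟩
  obtain ⟨g, e1, e2⟩ : ∃ g, Commute z (g * z * g⁻¹) ∧ g * z * g⁻¹ ≠ z := by
    by_contra! e
    have a1 := H6.mem_center_of_isolated (((inferInstance : (pPrimeCore 2 G).Normal).eq_bot_or_eq_top).resolve_right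
      fun e => H1.not_dvd_card_pPrimeCore 2 G (by
        rw [e, card_top, ← h.ord]; exact orderOf_dvd_natCard z)) h.ord e
    have a2 : (zpowers z).Normal := ⟨fun n hn g => by
      rwa [mem_center_iff.1 (zpowers_le.2 a1 hn) g, mul_inv_cancel_right]⟩
    have a3 := card_le_of_le (le_top.trans (a2.eq_bot_or_eq_top.resolve_left
      (zpowers_ne_bot.2 h.ne_one)).ge : Q ≤ _)
    rw [h.cq, h.cz] at a3
    omega
  have c : ∀ g, Commute z (g * z * g⁻¹) → g * z * g⁻¹ ≠ z → g * z * g⁻¹ ∈ Ce z ∧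
      g * z * g⁻¹ ∉ Q ∧ g * z * g⁻¹ * (g * z * g⁻¹) = 1 := fun g e1 e2 =>
    ⟨mem_Ce.2 e1.symm, fun e => e2 (hn g e), by rw [conj_mul, h.zz]; simp⟩
  obtain ⟨a1, a2, a3⟩ := c g e1 e2
  obtain ⟨b1, b2, b3⟩ := c g⁻¹ (by
    have := congrArg (fun x => g⁻¹ * x * g) e1.symm.eq
    simpa [Commute, SemiconjBy, mul_assoc] using this) (fun e => e2 (by
      nth_rw 1 [← e]; group))
  obtain ⟨s, hs, e⟩ := (h.coset b1 b2 b3 (h.card_WW sur ker b1 b2 b3)).2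
  have d : ∀ s ∈ Om Q z, s * (g⁻¹ * z * g⁻¹⁻¹) = g⁻¹ * z * g⁻¹⁻¹ * s → g * s * g⁻¹ ∈ Q :=
    fun s hs e => by_contra fun e' => by
      obtain ⟨k, hk⟩ := isConj_iff.1 (h.conj_out sur ker a1 a2 a3 (mem_Ce.2 (by
        calc _ = g * (s * (g⁻¹ * z * g⁻¹⁻¹)) * g⁻¹ := by group
          _ = _ := by rw [e]; group)) e' (by rw [conj_mul, hs.2.1]; simp))
      have d1 : g⁻¹ * k * g * z * (g⁻¹ * k * g)⁻¹ = s := by
        calc _ = g⁻¹ * (k * (g * z * g⁻¹) * k⁻¹) * g := by group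
          _ = _ := by rw [hk]; group
      exact hs.2.2 (d1 ▸ (hn _ (d1 ▸ hs.1)).symm ▸ mem_zpowers z)
  have d2 := d (z * s) ⟨mul_mem h.mem hs.1, by
    rw [mul_assoc, ← mul_assoc s, h.cent s hs.1, mul_assoc, hs.2.1, mul_one, h.zz], fun e =>
      hs.2.2 (((zpowers z).mul_mem_cancel_left (mem_zpowers z)).1 e)⟩
    (Commute.mul_left (mem_Ce.1 b1).symm e)
  rw [← conj_mul] at d2
  exact a2 ((Q.mul_mem_cancel_right (d s hs e)).1 d2)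

end JW

theorem isoJ2_of_simple [IsSimpleGroup G] {t : G} (ht : orderOf t = 2) {Q : Subgroup (Ce t)}
    [hN : Q.Normal] (hQ : IsExtraspecial 2 Q) (hcard : Nat.card Q = 32)
    (h2c : centralizer (Q : Set (Ce t)) ≤ Q) (e : Ce t ⧸ Q ≃* A5)
    (hcl : ∃ x y : G, orderOf x = 2 ∧ orderOf y = 2 ∧ ¬ IsConj x y) : Spor.IsoJ2 G := by
  have a1 : t ∈ Q.map (Ce t).subtype :=
    ⟨⟨t, mem_Ce.2 rfl⟩, h2c fun q _ => Subtype.ext (mem_Ce.1 q.2), rfl⟩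
  have a2 : XS (Q.map (Ce t).subtype) t := xs_of_isExtraspecial
    (H26.isExtraspecial_congr hQ (equivMapOfInjective _ _ (subtype_injective _)))
    (by rintro rfl; simp at ht) a1 fun _ ⟨q, _, e⟩ => e ▸ mem_Ce.1 q.2
  have h : JW (Q.map (Ce t).subtype) t := ⟨⟨a2, fun c hc => a2.zc c ⟨⟨c, mem_Ce.2 (hc t a1).symm⟩,
      h2c fun q hq => Subtype.ext (hc _ ⟨q, hq, rfl⟩), rfl⟩ hc, fun c hc =>
        mem_normalizer_of_conj_le fun _ ⟨q, hq, e⟩ => ⟨_, hN.conj_mem q hq ⟨c, hc⟩, e ▸ rfl⟩⟩,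
    by rw [card_map_of_injective (subtype_injective _), hcard], by
      rw [card_eq_card_quotient_mul_card_subgroup Q, Nat.card_congr e.toEquiv, card_A5, hcard]⟩
  have sur := e.surjective.comp (QuotientGroup.mk'_surjective Q)
  have ker : ∀ x, e.toMonoidHom.comp (QuotientGroup.mk' Q) x = 1 ↔ x.1 ∈ Q.map (Ce t).subtype :=
    fun x => (e.map_eq_one_iff.trans (QuotientGroup.eq_one_iff x)).trans
      (mem_map_iff_mem (subtype_injective _)).symm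
  obtain ⟨g, g1, g2⟩ := h.nwc sur ker
  obtain ⟨P, s, σ, ρ, u, K, h'⟩ := h.exists_je g1 g2 hcl
  exact JF.isoJ2 ⟨h', sur, ker⟩

end Cfsg.Agent.J2T
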